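import Cfsg.Agent.Lib.Char.GlaubermanPGroup
import Cfsg.Agent.Lib.Char.Clifford
import Cfsg.Agent.Lib.Char.Eigen

/-!
# Fixed points under a fixed point free coprime abelian `p`-group

For a character of `K = R ⋊ S` with `C_R(S) = 1`, the multiplicity `a` of the trivial character
on `S`, the multiplicity `b` on `K` and the degree `d` satisfy `p a ≤ (p - 1) b + d`.
-/

set_option autoImplicit false

namespace CfsgLib.ExtClosedP

open Cfsg CfsgLib.Char
open scoped ComplexConjugate CfsgLib.Char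

universe u

/-- The trivial group has one irreducible character. -/
theorem irr_eq_of_subsingleton {C : Type u} [Group C] [Fintype C] [Subsingleton C]
    (φ ψ : IrrCharacter C) : φ = ψ := by
  refine Subtype.ext ?_
  by_contra hne
  have h := classInner_irr_ne φ.2 ψ.2 hne
  obtain ⟨a, ha, hφ⟩ := exists_nat_degree_irr φ.2
  obtain ⟨b, hb, hψ⟩ := exists_nat_degree_irr ψ.2
  rw [classInner, Fintype.sum_subsingleton _ (1 : C), hφ, hψ, Complex.conj_natCast,
    mul_eq_zero, inv_eq_zero, mul_eq_zero, Nat.cast_eq_zero, Nat.cast_eq_zero,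
    Nat.cast_eq_zero] at h
  rcases h with h | h | h
  · exact Nat.card_pos.ne' h
  · omega
  · omega

variable {Γ : Type u} [Group Γ] [Fintype Γ] {p : ℕ}

/-- Only the trivial character is invariant. -/
theorem eq_one_of_inv (hp : p.Prime) {R S : Subgroup Γ} [Fintype R]
    (hS : S ≤ Subgroup.normalizer (R : Set Γ)) (hpS : IsPGroup p S) (hR : ¬ p ∣ Nat.card R)
    (hfix : R ⊓ Subgroup.centralizer (S : Set Γ) = ⊥) {θ : R → ℂ} (hθ : IsIrrCharacter R θ)
    (hinv : Glauberman.Inv R S θ) : θ = fun _ => 1 := by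
  classical
  haveI := Fact.mk hp
  have hcop : (Nat.card R).Coprime (Nat.card S) := by
    obtain ⟨j, hj⟩ := IsPGroup.iff_card.mp hpS
    rw [hj]
    exact Nat.Coprime.pow_right j (hp.coprime_iff_not_dvd.mpr hR).symm
  haveI := Fintype.ofFinite (⊥ : Subgroup Γ)
  obtain ⟨F, hF, -⟩ := Glauberman.hasCorr_of_isPGroup hp _ S rfl hS hpS hcop ⊥ bot_le hfix.symm
  have := hF.1 (a₁ := ⟨⟨θ, hθ⟩, hinv⟩)
    (a₂ := ⟨⟨fun _ => 1, isIrrCharacter_one⟩, fun _ _ _ _ _ => rfl⟩) (irr_eq_of_subsingleton _ _)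
  exact congrArg (fun x => ((x.1 : IrrCharacter R) : R → ℂ)) this

section Bound

variable [Fact p.Prime] {R S : Subgroup Γ} [R.Normal]
  (hc : R.IsComplement' S) (hpS : IsPGroup p S) (hcomm : IsMulCommutative S)
  (hR : ¬ p ∣ Nat.card R) (hfix : R ⊓ Subgroup.centralizer (S : Set Γ) = ⊥)

include hc in
/-- A character trivial on `R` has the same average over `S` as over the whole group. -/
theorem classInner_res_eq [Fintype S] {θ : Γ → ℂ} (h : ∀ r ∈ R, ∀ k, θ (r * k) = θ k) :
    classInner (fun k : S => θ k) (fun _ => 1) = classInner θ (fun _ => 1) := by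
  classical
  haveI := Fintype.ofFinite R
  let e : R × S ≃ Γ := Equiv.ofBijective _ hc
  have hsum : ∑ x : Γ, θ x = (Nat.card R : ℂ) * ∑ k : S, θ k := by
    rw [← e.sum_comp, Fintype.sum_prod_type]
    refine (Finset.sum_congr rfl (g := fun _ : R => ∑ k : S, θ k) fun (r : R) _ =>
      Finset.sum_congr rfl fun (k : S) _ => h (r : Γ) r.2 (k : Γ)).trans ?_
    rw [Finset.sum_const, Finset.card_univ, nsmul_eq_mul, Nat.card_eq_fintype_card]
  simp only [classInner, map_one, mul_one]
  rw [hsum, ← hc.card_mul_card, Nat.cast_mul, mul_inv, mul_comm (Nat.card R : ℂ)⁻¹, mul_assoc,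
    inv_mul_cancel_left₀ (Nat.cast_ne_zero.mpr Nat.card_pos.ne')]

include hc hpS hcomm hR hfix in
theorem irr_bound [Fintype S] {θ : Γ → ℂ} (hθ : IsIrrCharacter Γ θ) :
    (p : ℝ) * (classInner (fun k : S => θ k) (fun _ => 1)).re ≤
      ((p : ℝ) - 1) * (classInner θ (fun _ => 1)).re + (θ 1).re := by
  classical
  have hp : p.Prime := Fact.out
  haveI := Fintype.ofFinite R
  obtain ⟨d, hd0, hd⟩ := exists_nat_degree_irr hθ
  have hp1 : (1 : ℝ) ≤ p := by exact_mod_cast hp.one_le
  have hone : IsIrrCharacter Γ (fun _ => (1 : ℂ)) := isIrrCharacter_one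
  obtain ⟨b, hb⟩ := exists_nat_classInner (isCharacter_of_isIrr hθ) (isCharacter_of_isIrr hone)
  have hdd : (θ 1).re = (d : ℝ) := by rw [hd]; simp
  obtain ⟨φ, hφ⟩ := exists_constituent R (isCharacter_of_isIrr hθ)
    (by rw [hd]; exact_mod_cast hd0.ne')
  by_cases hinv : ∀ g, conjBy R (φ : R → ℂ) g = φ
  · -- `R` lies in the kernel
    have hφ1 : (φ : R → ℂ) = fun _ => 1 := by
      refine eq_one_of_inv hp Subgroup.le_normalizer_of_normal hpS hR hfix φ.2 ?_
      intro s hs g g' e
      have h1 := congrFun (hinv s) g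
      rw [← h1]
      exact congrArg (φ : R → ℂ) (Subtype.ext e)
    have hcl := clifford_invariant R hθ φ.2 hinv hφ
    have hker : ∀ r ∈ R, θ r = θ 1 := by
      intro r hr
      have e1 := congrFun hcl ⟨r, hr⟩
      have e2 := congrFun hcl 1
      simp only [Pi.smul_apply, hφ1] at e1 e2
      exact e1.trans (e2.symm.trans rfl)
    have hinvar : ∀ r ∈ R, ∀ k, θ (r * k) = θ k := by
      obtain ⟨n, ρ, hρ, hρe⟩ := hθ
      intro r hr k
      have hk := hker r hr
      rw [← hρe, ρ.char_one] at hk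
      rw [← hρe]
      show LinearMap.trace ℂ _ (ρ (r * k)) = LinearMap.trace ℂ _ (ρ k)
      rw [map_mul, (character_eq_finrank_iff ρ r).mp hk]
      rfl
    rw [classInner_res_eq hc hinvar, hb, hdd]
    have hb1 : b ≤ 1 := by
      by_cases h : θ = fun _ => 1
      · have h' := classInner_irr_self hone
        rw [h, h'] at hb
        have h1 : b = 1 := by exact_mod_cast hb.symm
        omega
      · rw [classInner_irr_ne hθ hone h] at hb
        have h0 : b = 0 := by exact_mod_cast hb.symm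
        omega
    have h2 : (b : ℝ) ≤ d := by exact_mod_cast hb1.trans hd0
    simp only [Complex.natCast_re]
    linarith
  · -- induced from the proper normal inertia group
    set T := inertia R (φ : R → ℂ) with hT
    have hRT : R ≤ T := le_inertia R (isClassFunction_of_isCharacter (isCharacter_of_isIrr φ.2))
    haveI := Fintype.ofFinite T
    obtain ⟨ψ, -, hψ, -⟩ := clifford_correspondence_surjective R T φ.2
      (fun g => mem_inertia R) hRT hθ hφ
    have hdec : ∀ g : Γ, ∃ r ∈ R, ∃ k ∈ S, g = r * k := by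
      intro g
      have hg : g ∈ R ⊔ S := hc.sup_eq_top ▸ Subgroup.mem_top g
      obtain ⟨r, hr, k, hk, e⟩ := Subgroup.mem_sup_of_normal_left.mp hg
      exact ⟨r, hr, k, hk, e.symm⟩
    have hzero : ∀ k ∈ S, k ∉ T → θ k = 0 := by
      intro k hk hkT
      rw [← hψ]
      simp only [indFun]
      refine mul_eq_zero_of_right _ (Finset.sum_eq_zero fun x _ => ?_)
      refine extendByZero_notMem _ _ fun hx => hkT ?_
      obtain ⟨r, hr, c, hcS, rfl⟩ := hdec x
      haveI := hcomm
      have hck : c * k = k * c := congrArg Subtype.val (mul_comm' (⟨c, hcS⟩ : S) ⟨k, hk⟩)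
      have e : (r * c)⁻¹ * k * (r * c) = c⁻¹ * (r⁻¹ * (k * r * k⁻¹)) * c * k := by
        calc (r * c)⁻¹ * k * (r * c) = c⁻¹ * (r⁻¹ * (k * r * k⁻¹)) * (k * c) := by group
          _ = c⁻¹ * (r⁻¹ * (k * r * k⁻¹)) * (c * k) := by rw [hck]
          _ = _ := by group
      rw [e] at hx
      have hmem : c⁻¹ * (r⁻¹ * (k * r * k⁻¹)) * c ∈ R := by
        have := Subgroup.Normal.conj_mem ‹R.Normal› (r⁻¹ * (k * r * k⁻¹))
          (mul_mem (inv_mem hr) (Subgroup.Normal.conj_mem ‹R.Normal› r hr k)) c⁻¹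
        simpa [inv_inv] using this
      exact (T.mul_mem_cancel_left (hRT hmem)).mp hx
    obtain ⟨n, ρ, hρ, hρe⟩ := hθ
    have hn : (n : ℝ) = d := by
      have h1 := ρ.char_one
      rw [hρe, hd, Module.finrank_fin_fun] at h1
      exact_mod_cast h1.symm
    set S₁ := T.subgroupOf S with hS₁
    have hS1 : S₁ ≠ ⊤ := by
      intro e
      refine hinv fun g => ?_
      obtain ⟨r, hr, k, hk, rfl⟩ := hdec g
      exact mul_mem (hRT hr) (Subgroup.subgroupOf_eq_top.mp e hk)
    have hcard : p * Nat.card S₁ ≤ Nat.card S := by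
      obtain ⟨j, hj⟩ := IsPGroup.iff_card.mp hpS
      obtain ⟨i, hij, hi⟩ := (Nat.dvd_prime_pow hp).mp (hj ▸ S₁.card_subgroup_dvd_card)
      have hne : i ≠ j := fun e => hS1 (Subgroup.eq_top_of_card_eq _ (by rw [hi, hj, e]))
      rw [hi, hj, ← pow_succ']
      exact Nat.pow_le_pow_right hp.pos (by omega)
    have hb' : (0 : ℝ) ≤ ((p : ℝ) - 1) * (classInner θ fun _ => 1).re := by
      rw [hb, Complex.natCast_re]
      exact mul_nonneg (by linarith) (Nat.cast_nonneg b)
    suffices h : (p : ℝ) * (classInner (fun k : S => θ k) (fun _ => 1)).re ≤ d by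
      rw [hdd]; linarith
    have hnorm : ‖∑ k : S, θ k‖ ≤ (Nat.card S₁ : ℝ) * d := by
      have hsub : ∑ k : S, θ k = ∑ k ∈ Finset.univ.filter (fun k : S => k ∈ S₁), θ k := by
        rw [Finset.sum_filter_of_ne]
        intro k _ hne
        by_contra hk
        exact hne (hzero k k.2 hk)
      rw [hsub]
      refine (norm_sum_le _ _).trans ((Finset.sum_le_card_nsmul _ _ (d : ℝ) fun k _ => ?_).trans
        (le_of_eq ?_))
      · rw [← hn, ← hρe]
        have := norm_character_le ρ (k : Γ)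
        rwa [Module.finrank_fin_fun] at this
      · rw [nsmul_eq_mul, Nat.card_eq_fintype_card, Fintype.card_subtype]
    have hq : (0 : ℝ) < Nat.card S := by exact_mod_cast Nat.card_pos
    simp only [classInner, map_one, mul_one]
    refine (mul_le_mul_of_nonneg_left ((Complex.re_le_norm _).trans ?_) (by linarith)).trans
      (b := (p : ℝ) * ((Nat.card S : ℝ)⁻¹ * ((Nat.card S₁ : ℝ) * d))) ?_
    · rw [norm_mul, norm_inv, Complex.norm_natCast]
      gcongr
    · have h2 : (p : ℝ) * Nat.card S₁ ≤ Nat.card S := by exact_mod_cast hcard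
      rw [show (p : ℝ) * ((Nat.card S : ℝ)⁻¹ * ((Nat.card S₁ : ℝ) * d)) =
        ((p : ℝ) * Nat.card S₁) / Nat.card S * d by ring]
      exact mul_le_of_le_one_left (Nat.cast_nonneg d) ((div_le_one hq).mpr h2)

include hc hpS hcomm hR hfix in
theorem char_bound [Fintype S] {χ : Γ → ℂ} (hχ : IsCharacter Γ χ) :
    (p : ℝ) * (classInner (fun k : S => χ k) (fun _ => 1)).re ≤
      ((p : ℝ) - 1) * (classInner χ (fun _ => 1)).re + (χ 1).re := by
  classical
  obtain ⟨m, hm⟩ := exists_multiplicities hχ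
  have h1 : classInner (fun k : S => χ k) (fun _ => 1) =
      ∑ θ : IrrCharacter Γ, (m θ : ℂ) * classInner (fun k : S => (θ : Γ → ℂ) k) (fun _ => 1) := by
    rw [show (fun k : S => χ k) = ∑ θ : IrrCharacter Γ, (m θ : ℂ) • fun k : S => (θ : Γ → ℂ) k by
      funext k
      simp [hm, Finset.sum_apply], classInner_sum_left]
    exact Finset.sum_congr rfl fun θ _ => classInner_smul_left _ _ _
  have h2 : classInner χ (fun _ => 1) =
      ∑ θ : IrrCharacter Γ, (m θ : ℂ) * classInner (θ : Γ → ℂ) (fun _ => 1) := by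
    rw [hm, classInner_sum_left]
    exact Finset.sum_congr rfl fun θ _ => classInner_smul_left _ _ _
  have h3 : χ 1 = ∑ θ : IrrCharacter Γ, (m θ : ℂ) * (θ : Γ → ℂ) 1 := by
    simp [hm, Finset.sum_apply]
  rw [h1, h2, h3, Complex.re_sum, Complex.re_sum, Complex.re_sum, Finset.mul_sum, Finset.mul_sum,
    ← Finset.sum_add_distrib]
  refine Finset.sum_le_sum fun θ _ => ?_
  have h := mul_le_mul_of_nonneg_left (irr_bound hc hpS hcomm hR hfix θ.2)
    (Nat.cast_nonneg (α := ℝ) (m θ))
  simp only [Complex.mul_re, Complex.natCast_re, Complex.natCast_im, zero_mul, sub_zero]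
  linarith

end Bound

end CfsgLib.ExtClosedP
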