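import Cfsg.Agent.Lib.ExtClosedP.Coset
import Cfsg.Agent.Lib.ExtClosedP.Fixed
import Cfsg.Agent.Lib.Blocks.PrincipalColumn
import Cfsg.Agent.Lib.Blocks.SectionOrth
import Cfsg.Agent.S4491

/-!
# The case `O_{p'}(G) = 1`

With `v(χ) = ∑_{x ∈ H, x ≠ 1} χ(x)` and `q = |H|`, the characters of the principal block satisfy
`∑ v³/χ(1) = (q - 2) ∑ v²`, while for a group generated by three conjugates of `H` every
nontrivial `χ` has `(p + 1) dim C_V(H) ≤ 2 χ(1)`.
-/

set_option autoImplicit false

namespace CfsgLib.ExtClosedP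

open Cfsg CfsgLib.Char
open scoped ComplexConjugate CfsgLib.Char

universe u

/-- The character sum is the order times the dimension of the fixed space. -/
theorem sum_character_eq {K : Type*} [Group K] [Fintype K] {n : ℕ}
    (σ : Representation ℂ K (Fin n → ℂ)) :
    ∑ x : K, σ.character x = (Nat.card K : ℂ) * (Module.finrank ℂ σ.invariants : ℂ) := by
  have hne : (Fintype.card K : ℂ) ≠ 0 := Nat.cast_ne_zero.2 Fintype.card_ne_zero
  haveI : Invertible (Fintype.card K : ℂ) := invertibleOfNonzero hne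
  rw [Nat.card_eq_fintype_card, ← (Representation.isProj_averageMap σ).trace]
  rw [Representation.averageMap, GroupAlgebra.average, map_smul, map_smul, map_sum, map_sum,
    smul_eq_mul, ← mul_assoc, mul_invOf_self, one_mul]
  exact Finset.sum_congr rfl fun h _ => by simp [Representation.character]

theorem classInner_one_eq_finrank {K : Type*} [Group K] [Fintype K] {n : ℕ}
    (σ : Representation ℂ K (Fin n → ℂ)) :
    classInner σ.character (fun _ => 1) = (Module.finrank ℂ σ.invariants : ℂ) := by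
  simp only [classInner, map_one, mul_one]
  rw [sum_character_eq σ, inv_mul_cancel_left₀ (Nat.cast_ne_zero.mpr Nat.card_pos.ne')]

variable {G : Type u} [Group G] [Fintype G] {p : ℕ} [Fact p.Prime] {H : Subgroup G}

/-- Averaging a character over the translate of a class. -/
theorem sum_conj_mul (χ : IrrCharacter G) (a b : G) :
    (χ : G → ℂ) 1 * ∑ g : G, (χ : G → ℂ) (g * a * g⁻¹ * b) =
      (Nat.card G : ℂ) * ((χ : G → ℂ) a * (χ : G → ℂ) b) := by
  classical
  set f : G → ℂ := fun z => ((Finset.univ.filter fun g : G => g * a * g⁻¹ = z).card : ℂ) with hf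
  have hcl : IsClassFunction G f := by
    intro z k
    simp only [hf, Nat.cast_inj]
    refine Finset.card_equiv (Equiv.mulLeft k⁻¹) fun g => ?_
    simp only [Finset.mem_filter, Finset.mem_univ, true_and, Equiv.coe_mulLeft]
    refine ⟨fun e => ?_, fun e => ?_⟩
    · rw [show k⁻¹ * g * a * (k⁻¹ * g)⁻¹ = k⁻¹ * (g * a * g⁻¹) * k by group, e]; group
    · rw [← e]; group
  have hsum : ∀ F : G → ℂ, ∑ z, f z * F z = ∑ g : G, F (g * a * g⁻¹) := fun F => by
    refine Eq.trans ?_ (Finset.sum_fiberwise_of_maps_to (s := Finset.univ) (t := Finset.univ)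
      (fun g _ => Finset.mem_univ (g * a * g⁻¹)) fun g => F (g * a * g⁻¹))
    refine Finset.sum_congr rfl fun z _ => ?_
    rw [Finset.sum_congr rfl (g := fun _ => F z) fun g hg => by rw [(Finset.mem_filter.mp hg).2],
      Finset.sum_const, nsmul_eq_mul]
  have h := Blocks.sum_mul_irr_mul hcl χ b
  rw [hsum fun z => (χ : G → ℂ) (z * b), Blocks.omega, hsum fun z => (χ : G → ℂ) z] at h
  have hcl' := Blocks.irr_classFunction χ
  rw [h, Finset.sum_congr rfl fun g _ => hcl' a g, Finset.sum_const, nsmul_eq_mul, Finset.card_univ,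
    Nat.card_eq_fintype_card]
  field_simp [irr_degree_ne_zero χ.2]

/-- A `p`-subgroup of a centralizer bounds the principal column. -/
theorem card_le_principal_column {M : Ideal AlgInt} (hM : IsPModular p M) {x : G}
    {S : Subgroup G} (hS : IsPGroup p S) (hSC : S ≤ Subgroup.centralizer ({x} : Set G)) :
    Nat.card S ≤ ∑ᶠ ψ ∈ principalBlock M ↥(Subgroup.centralizer ({x} : Set G)),
        charDegree (ψ : Subgroup.centralizer ({x} : Set G) → ℂ) ^ 2 := by
  classical
  have hp : p.Prime := Fact.out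
  set C := Subgroup.centralizer ({x} : Set G)
  haveI := Fintype.ofFinite C
  haveI := Blocks.isPrime_of_isPModular hM
  haveI := Char.finite_irrCharacter (G := C)
  obtain ⟨j, hj⟩ := IsPGroup.iff_card.mp hS
  have hja : j ≤ (Nat.card C).factorization p := by
    rw [← hp.pow_dvd_iff_le_factorization Nat.card_pos.ne', ← hj]
    exact Subgroup.card_dvd_of_le hSC
  have hB : IsPBlock M (principalBlock M C) := Blocks.isPBlock_principalBlock
  obtain ⟨hda, -, -, -⟩ := Blocks.blockDefect_le_and_degree hM hB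
  have hv := Cfsg.Agent.S4491.result p M hM _ hB
  have hmem : Blocks.trivIrr C ∈ principalBlock M C := by
    rw [Blocks.principalBlock_eq]
    exact Blocks.mem_blockOf_self (M := M) (Blocks.trivIrr C)
  set S2 := ∑ᶠ ψ ∈ principalBlock M C, charDegree (ψ : C → ℂ) ^ 2 with hS2
  have hfin : (principalBlock M C).Finite := Set.toFinite _
  have hpos : 0 < S2 := by
    rw [hS2, finsum_mem_eq_finite_toFinset_sum _ hfin]
    exact Finset.sum_pos (fun ψ _ => pow_pos (Blocks.irr_degree_eq ψ).2 2)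
      ⟨Blocks.trivIrr C, hfin.mem_toFinset.mpr hmem⟩
  rw [hj]
  refine Nat.le_of_dvd hpos ((hp.pow_dvd_iff_le_factorization hpos.ne').mpr ?_)
  rw [hv]
  omega

namespace Hyp

variable (h : Hyp p H)
include h

/-- The fixed space bound for a group generated by three conjugates of `H`. -/
theorem fixed_bound {a b : G} (hgen : triple H a b = ⊤) [Fintype H] {χ : IrrCharacter G}
    (hne : (χ : G → ℂ) ≠ fun _ => 1) {k d : ℕ}
    (hk : classInner (fun x : H => (χ : G → ℂ) x) (fun _ => 1) = (k : ℂ))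
    (hd : (χ : G → ℂ) 1 = (d : ℂ)) : (p + 1) * k ≤ 2 * d := by
  classical
  obtain ⟨n, ρ, hρ, hρe⟩ := χ.2
  have hdn : d = n := by
    have h1 := ρ.char_one
    rw [hρe, hd, Module.finrank_fin_fun] at h1
    exact_mod_cast h1
  let W : Subgroup G → Submodule ℂ (Fin n → ℂ) := fun X =>
    Representation.invariants (ρ.comp X.subtype : Representation ℂ X (Fin n → ℂ))
  have hWmem : ∀ (X : Subgroup G) (v : Fin n → ℂ), v ∈ W X ↔ ∀ x ∈ X, ρ x v = v := fun X v =>
    ⟨fun hv x hx => hv ⟨x, hx⟩, fun hv x => hv x x.2⟩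
  have hWmono : ∀ {X Y : Subgroup G}, X ≤ Y → W Y ≤ W X := fun {X Y} hXY v hv =>
    (hWmem X v).mpr fun x hx => (hWmem Y v).mp hv x (hXY hx)
  have hk' : Module.finrank ℂ (W H) = k := by
    let ρH : Representation ℂ H (Fin n → ℂ) := ρ.comp H.subtype
    have h1 := classInner_one_eq_finrank ρH
    have h2 : ρH.character = fun x : H => (χ : G → ℂ) x := funext fun x => congrFun hρe (x : G)
    rw [h2, hk, Nat.cast_inj] at h1
    exact h1.symm
  have hbnd : ∀ g, p * k ≤ (p - 1) * Module.finrank ℂ (W (kJoin H g)) + d := by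
    intro g
    obtain ⟨R, hRK, hKR, hRp, hdec, htriv, -, -⟩ := h.exists_kJoin_complement g
    set K := kJoin H g
    have hHK : H ≤ K := le_kJoin H g
    haveI := Fintype.ofFinite K
    set R' : Subgroup K := R.subgroupOf K
    set S' : Subgroup K := H.subgroupOf K
    haveI : R'.Normal := (Subgroup.normal_subgroupOf_iff_le_normalizer hRK).mpr hKR
    haveI := Fintype.ofFinite S'
    set eS : S' ≃* H := Subgroup.subgroupOfEquivOfLe hHK
    have hR' : ¬ p ∣ Nat.card R' := by
      rw [Nat.card_congr (Subgroup.subgroupOfEquivOfLe hRK).toEquiv]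
      exact hRp
    have hc : R'.IsComplement' S' := by
      refine Subgroup.isComplement'_of_disjoint_and_mul_eq_univ ?_ ?_
      · rw [Subgroup.disjoint_def]
        intro x hx hx'
        exact Subtype.ext (htriv x hx (Subgroup.le_normalizer hx'))
      · refine Set.eq_univ_of_forall fun x => ?_
        obtain ⟨r, hr, y, hy, e⟩ := hdec x x.2
        exact ⟨⟨r, hRK hr⟩, hr, ⟨y, hHK hy⟩, hy, Subtype.ext e.symm⟩
    have hS' : IsPGroup p S' := h.pgroup.comap_of_injective K.subtype K.subtype_injective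
    have hcomm : IsMulCommutative S' :=
      ⟨⟨fun x y => Subtype.ext (Subtype.ext (h.mul_comm_mem x.2 y.2))⟩⟩
    have hfix : R' ⊓ Subgroup.centralizer (S' : Set K) = ⊥ := by
      rw [eq_bot_iff]
      rintro x ⟨hx, hxc⟩
      refine Subtype.ext (htriv x hx (Subgroup.centralizer_le_normalizer _ ?_))
      exact Subgroup.mem_centralizer_iff.mpr fun y hy =>
        congrArg Subtype.val (Subgroup.mem_centralizer_iff.mp hxc ⟨y, hHK hy⟩ hy)
    set σ : Representation ℂ K (Fin n → ℂ) := ρ.comp K.subtype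
    have hb := char_bound (p := p) hc hS' hcomm hR' hfix (χ := σ.character) ⟨n, σ, rfl⟩
    have e1 : classInner (fun x : S' => σ.character x) (fun _ => 1) = (k : ℂ) := by
      rw [← hk, ← classInner_comp_mulEquiv eS (fun x : H => (χ : G → ℂ) x) (fun _ => 1)]
      congr 1
      funext x
      exact congrFun hρe ((x : K) : G)
    have e2 : σ.character 1 = (d : ℂ) := by rw [← hd, ← hρe]; rfl
    rw [e1, e2, classInner_one_eq_finrank σ] at hb
    simp only [Complex.natCast_re] at hb
    have hp1 : 1 ≤ p := (Fact.out : p.Prime).one_le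
    rw [← Nat.cast_le (α := ℝ)]
    push_cast [Nat.cast_sub hp1]
    exact hb
  have hinf : W (kJoin H a) ⊓ W (kJoin H b) = ⊥ := by
    have hall : ∀ v ∈ W (kJoin H a) ⊓ W (kJoin H b), ∀ x : G, ρ x v = v := by
      intro v hv
      let Q : Subgroup G :=
        { carrier := {x | ρ x v = v}
          one_mem' := by simp
          mul_mem' := fun {x y} hx hy => by
            simp only [Set.mem_setOf_eq] at hx hy ⊢
            rw [map_mul, Module.End.mul_apply, hy, hx]
          inv_mem' := fun {x} hx => by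
            simp only [Set.mem_setOf_eq] at hx ⊢
            nth_rewrite 1 [← hx]
            rw [← Module.End.mul_apply, ← map_mul, inv_mul_cancel, map_one,
              Module.End.one_apply] }
      have hQ : triple H a b ≤ Q :=
        sup_le (fun x hx => (hWmem _ v).mp hv.1 x hx) fun x hx => (hWmem _ v).mp hv.2 x hx
      rw [hgen] at hQ
      exact fun x => hQ (Subgroup.mem_top x)
    let I : Subrepresentation ρ :=
      ⟨Representation.invariants ρ, fun g v hv => by rw [hv g]; exact hv⟩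
    rcases hρ.eq_bot_or_eq_top I with hI | hI
    · rw [eq_bot_iff]
      intro v hv
      have h1 : v ∈ I.toSubmodule := hall v hv
      rw [hI] at h1
      exact h1
    · refine absurd ?_ hne
      have h1 : ∀ x, (χ : G → ℂ) x = (χ : G → ℂ) 1 := by
        intro x
        rw [← hρe, ρ.char_one, character_eq_finrank_iff]
        refine LinearMap.ext fun v => ?_
        have h2 : v ∈ I.toSubmodule := by rw [hI]; trivial
        exact h2 x
      by_contra hne'
      have h0 := classInner_irr_ne χ.2 isIrrCharacter_one hne'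
      obtain ⟨d', hd', hdeg⟩ := exists_nat_degree_irr χ.2
      simp only [classInner, h1, hdeg, map_one, mul_one, Finset.sum_const, Finset.card_univ,
        nsmul_eq_mul, mul_eq_zero, inv_eq_zero, Nat.cast_eq_zero] at h0
      rcases h0 with h0 | h0 | h0
      · exact Nat.card_pos.ne' h0
      · exact Fintype.card_ne_zero h0
      · omega
  have hsum := Submodule.finrank_sup_add_finrank_inf_eq (W (kJoin H a)) (W (kJoin H b))
  rw [hinf, finrank_bot, add_zero] at hsum
  have hle : Module.finrank ℂ ↥(W (kJoin H a) ⊔ W (kJoin H b)) ≤ k := hk' ▸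
    Submodule.finrank_mono (sup_le (hWmono (le_kJoin H a)) (hWmono (le_kJoin H b)))
  have h1 := hbnd a
  have h2 := hbnd b
  have hp1 : 1 ≤ p := (Fact.out : p.Prime).one_le
  have h3 : (p - 1) * Module.finrank ℂ (W (kJoin H a)) + (p - 1) * Module.finrank ℂ (W (kJoin H b))
      ≤ (p - 1) * k := by rw [← Nat.mul_add]; exact Nat.mul_le_mul le_rfl (hsum ▸ hle)
  have h4 : (p - 1) * k + k = p * k := by
    rw [← Nat.succ_mul]; congr 1; omega
  rw [Nat.add_mul, one_mul]
  omega

set_option maxHeartbeats 1000000 in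
/-- **The case `O_{p'}(G) = 1`.** -/
theorem normalizer_le_of_core_trivial (hp2 : p ≠ 2) (hH : H ≠ ⊥) (hO : pPrimeCore p G = ⊥)
    {a b : G} (hgen : triple H a b = ⊤)
    (hgood : ∀ e ∈ H, e ≠ 1 → ∀ x ∈ Subgroup.centralizer ({e} : Set G),
      ∀ y ∈ Subgroup.centralizer ({e} : Set G), h.nPart (x * y) = h.nPart x * h.nPart y) :
    Subgroup.normalizer (H : Set G) ≤ H := by
  classical
  have hp : p.Prime := Fact.out
  haveI := Fintype.ofFinite H
  obtain ⟨M, hM⟩ := Blocks.exists_isPModular hp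
  haveI := Blocks.isPrime_of_isPModular hM
  by_contra hne
  set q := Nat.card H with hq
  have hHord : ∀ x ∈ H, ∃ j : ℕ, orderOf x = p ^ j := fun x hx => by
    obtain ⟨j, hj⟩ := IsPGroup.iff_orderOf.mp h.pgroup ⟨x, hx⟩
    exact ⟨j, (Subgroup.orderOf_coe (⟨x, hx⟩ : H)).trans hj⟩
  have hreg1 : ¬ p ∣ orderOf (1 : G) := by rw [orderOf_one, Nat.dvd_one]; exact hp.ne_one
  set B : Finset (IrrCharacter G) :=
    Finset.univ.filter (fun χ : IrrCharacter G => χ ∈ principalBlock M G) with hB
  have hBmem : ∀ {χ}, χ ∈ B → χ ∈ principalBlock M G := fun hχ => (Finset.mem_filter.mp hχ).2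
  -- degrees and fixed space dimensions
  choose d hd0 hd using fun χ : IrrCharacter G => exists_nat_degree_irr χ.2
  choose k hk using fun χ : IrrCharacter G => exists_nat_classInner
    (isCharacter_restrict H (isCharacter_of_isIrr χ.2)) (isCharacter_of_isIrr (G := H) isIrrCharacter_one)
  have hs : ∀ χ : IrrCharacter G, ∑ x : H, (χ : G → ℂ) x = (q : ℂ) * k χ := fun χ => by
    rw [← hk χ]
    simp only [classInner, map_one, mul_one]
    rw [mul_inv_cancel_left₀ (Nat.cast_ne_zero.mpr Nat.card_pos.ne')]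
  -- sums over the nontrivial elements
  set Hs : Finset H := Finset.univ.erase 1 with hHs
  have hv : ∀ χ : IrrCharacter G, ∑ x ∈ Hs, (χ : G → ℂ) x = (q : ℂ) * k χ - d χ := fun χ => by
    rw [hHs, Finset.sum_erase_eq_sub (Finset.mem_univ _), hs, OneMemClass.coe_one, hd]
  set v : IrrCharacter G → ℝ := fun χ => (q : ℝ) * k χ - d χ with hvdef
  have hvc : ∀ χ : IrrCharacter G, ∑ x ∈ Hs, (χ : G → ℂ) x = (v χ : ℂ) := fun χ => by rw [hv, hvdef]; push_cast; rfl
  -- orthogonality with regular elements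
  have horth : ∀ ρ : G, ¬ p ∣ orderOf ρ → ∑ χ ∈ B, (χ : G → ℂ) ρ * (v χ : ℂ) = 0 := by
    intro ρ hρ
    have e : ∀ χ : IrrCharacter G, (v χ : ℂ) = ∑ x ∈ Hs, conj ((χ : G → ℂ) x) := fun χ => by
      rw [← map_sum, hvc, Complex.conj_ofReal]
    simp only [e, Finset.mul_sum]
    rw [Finset.sum_comm]
    refine Finset.sum_eq_zero fun x hx => ?_
    have hx1 : (x : G) ≠ 1 := fun e => (Finset.ne_of_mem_erase hx) (Subtype.ext e)
    rw [hB]
    refine Blocks.sum_block_eq_zero_of_not_isConj hM (a := 1) (b := (x : G)) ?_ ?_ ?_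
      Blocks.isPBlock_principalBlock
    · exact ⟨ρ, one_mul _, Commute.one_left _, ⟨0, by simp⟩, hρ⟩
    · exact ⟨1, mul_one _, Commute.one_right _, hHord _ x.2, hreg1⟩
    · exact fun hc => hx1 (isConj_one_right.mp hc)
  have hdv : ∑ χ ∈ B, (d χ : ℝ) * v χ = 0 := by
    have := horth 1 hreg1
    simp only [hd] at this
    exact_mod_cast this
  -- the products of two conjugates
  have hval : ∀ χ ∈ B, ∀ e ∈ H, e ≠ 1 → ∀ t, IsR p H t → t * e = e * t →
      (χ : G → ℂ) (t * e) = (χ : G → ℂ) e := by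
    intro χ hχ e he he1 t ht hte
    set C := Subgroup.centralizer ({e} : Set G)
    haveI := Fintype.ofFinite C
    let T : Subgroup C :=
      { carrier := {x | IsR p H (x : G)}
        one_mem' := (h.nPart_eq_one_iff).mp (h.nPart_of_mem (one_mem _))
        mul_mem' := by
          rintro ⟨x, hx⟩ ⟨y, hy⟩ (hxR : IsR p H x) (hyR : IsR p H y)
          refine (h.nPart_eq_one_iff).mp ?_
          show h.nPart (x * y) = 1
          rw [hgood e he he1 x hx y hy,
            h.nPart_eq_one_iff.mpr hxR, h.nPart_eq_one_iff.mpr hyR, one_mul]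
        inv_mem' := by
          rintro ⟨x, hx⟩ (hxR : IsR p H x)
          refine (h.nPart_eq_one_iff).mp ?_
          have h1 := hgood e he he1 x hx x⁻¹ (inv_mem hx)
          rw [mul_inv_cancel, h.nPart_of_mem (one_mem _), h.nPart_eq_one_iff.mpr hxR, one_mul] at h1
          exact h1.symm }
    haveI hTn : T.Normal := by
      refine ⟨fun x hx c => ?_⟩
      refine (h.nPart_eq_one_iff).mp ?_
      show h.nPart ((c : G) * (x : G) * (c : G)⁻¹) = 1
      rw [hgood e he he1 _ (mul_mem c.2 x.2) _ (inv_mem c.2), hgood e he he1 c c.2 x x.2,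
        h.nPart_eq_one_iff.mpr hx, mul_one, ← hgood e he he1 c c.2 _ (inv_mem c.2), mul_inv_cancel,
        h.nPart_of_mem (one_mem _)]
    have hTp : ¬ p ∣ Nat.card T := fun hdvd => by
      obtain ⟨x, hx⟩ := exists_prime_orderOf_dvd_card' p hdvd
      refine x.2.2 ?_
      rw [Subgroup.orderOf_coe, Subgroup.orderOf_coe, hx]
    have hTle : T ≤ pPrimeCore p C :=
      Transfer.le_pPrimeCore hTn (hp.coprime_iff_not_dvd.mpr hTp).symm
    have htC : t ∈ C := Subgroup.mem_centralizer_singleton_iff.mpr hte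
    have hcl := Blocks.value_mul_pPrimeCore hM (hHord e he) (hBmem hχ) (y := 1) (v := ⟨t, htC⟩)
      (by rw [orderOf_one, Nat.dvd_one]; exact hp.ne_one)
      (by rw [one_mul, Subgroup.orderOf_mk]; exact ht.2) (hTle ht)
    rw [one_mul, OneMemClass.coe_one, mul_one] at hcl
    rw [hte]
    exact hcl
  let c : G → H → H := fun g x =>
    (⟨_, conj_mem_of_mem_normalizer (h.nPart_mem g) x.2⟩ : H)
  let Q : G → H → G := fun g x => g * x * g⁻¹ * ((c g x : H) : G)⁻¹
  have hQr : ∀ g x, ¬ p ∣ orderOf (Q g x) := by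
    intro g x
    obtain ⟨r, hr, e⟩ := h.exists_eq_mul g
    obtain ⟨R, -, hKR, hRp, -, -, hreg, -⟩ := h.exists_kJoin_complement r
    refine not_dvd_orderOf hRp ?_
    have hrR := hreg r hr.1 hr.2
    have h1 : g * x * g⁻¹ * ((c g x : H) : G)⁻¹ =
        r * ((c g x : G) * r⁻¹ * (c g x : G)⁻¹) := by
      show _ = r * (h.nPart g * x * (h.nPart g)⁻¹ * r⁻¹ * (h.nPart g * x * (h.nPart g)⁻¹)⁻¹)
      show g * x * g⁻¹ * (h.nPart g * x * (h.nPart g)⁻¹)⁻¹ = _
      nth_rewrite 1 2 [e]
      group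
    show g * x * g⁻¹ * ((c g x : H) : G)⁻¹ ∈ R
    rw [h1]
    exact mul_mem hrR ((Subgroup.mem_normalizer_iff.mp (hKR (le_kJoin H r (c g x).2)) _).mp
      (inv_mem hrR))
  have hkey : ∀ χ : IrrCharacter G, χ ∈ B →
      (Nat.card G : ℂ) * ((q : ℂ) * k χ) ^ 2 = (d χ : ℂ) * ((Nat.card G : ℂ) * q * (v χ : ℂ) +
        ∑ g : G, ∑ x : H, (χ : G → ℂ) (Q g x)) := by
    intro χ hχ
    have hterm : ∀ (g : G) (x y : H), (χ : G → ℂ) (g * x * g⁻¹ * y) =
        (χ : G → ℂ) ((c g x * y : H) : G) + if y = (c g x)⁻¹ then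
          ((χ : G → ℂ) (g * x * g⁻¹ * ((c g x : H) : G)⁻¹) - d χ) else 0 := by
      intro g x y
      by_cases hy : y = (c g x)⁻¹
      · rw [if_pos hy, hy, mul_inv_cancel, OneMemClass.coe_one, hd, Subgroup.coe_inv]
        ring
      rw [if_neg hy, add_zero]
      obtain ⟨r, hr, e⟩ := h.exists_eq_mul g
      obtain ⟨R, hRK, hKR, hRp, -, -, hreg, -⟩ := h.exists_kJoin_complement r
      have hrR := hreg r hr.1 hr.2
      set e' : G := ((c g x * y : H) : G) with he'
      have he'1 : e' ≠ 1 := fun h1 => hy (eq_inv_of_mul_eq_one_right (Subtype.ext h1))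
      have hρ : r * ((c g x : G) * r⁻¹ * (c g x : G)⁻¹) ∈ R :=
        mul_mem hrR ((Subgroup.mem_normalizer_iff.mp (hKR (le_kJoin H r (c g x).2)) _).mp
          (inv_mem hrR))
      have he'N : e' ∈ Subgroup.normalizer (R : Set G) :=
        hKR (le_kJoin H r (c g x * y).2)
      have hcop : (Nat.card R).Coprime (orderOf e') := by
        obtain ⟨j, hj⟩ := hHord e' (c g x * y).2
        rw [hj]
        exact Nat.Coprime.pow_right j (hp.coprime_iff_not_dvd.mpr hRp).symm
      obtain ⟨t, htR, htc, htconj⟩ := exists_isConj_centralizing he'N hcop hρ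
      have h1 : g * x * g⁻¹ * y = r * ((c g x : G) * r⁻¹ * (c g x : G)⁻¹) * e' := by
        rw [he', Subgroup.coe_mul]
        show _ = r * (h.nPart g * x * (h.nPart g)⁻¹ * r⁻¹ *
          (h.nPart g * x * (h.nPart g)⁻¹)⁻¹) * (h.nPart g * x * (h.nPart g)⁻¹ * y)
        nth_rewrite 1 2 [e]
        group
      rw [h1, eq_of_isConj (Blocks.irr_classFunction χ) htconj]
      exact hval χ hχ e' (c g x * y).2 he'1 t (h.isR_of_mem (le_kJoin H r)
        (fun z hz hn => h.mem_of_conj_mem_normalizer hz hn) (hRK htR) (not_dvd_orderOf hRp htR)) htc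
    have hshift : ∀ z : H, ∑ y : H, (χ : G → ℂ) ((z * y : H) : G) = (q : ℂ) * k χ := fun z =>
      (Equiv.sum_comp (Equiv.mulLeft z) (fun y : H => (χ : G → ℂ) y)).trans (hs χ)
    have hinner : ∀ (g : G) (x : H), ∑ y : H, (χ : G → ℂ) (g * x * g⁻¹ * y) =
        (v χ : ℂ) + (χ : G → ℂ) (g * x * g⁻¹ * ((c g x : H) : G)⁻¹) := by
      intro g x
      rw [Finset.sum_congr rfl fun y _ => hterm g x y, Finset.sum_add_distrib,
        Finset.sum_ite_eq', if_pos (Finset.mem_univ _),
        hshift (c g x), ← hvc, hv]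
      ring
    have h2 : (d χ : ℂ) * ∑ g : G, ∑ x : H, ∑ y : H, (χ : G → ℂ) (g * x * g⁻¹ * y) =
        (Nat.card G : ℂ) * ((q : ℂ) * k χ) ^ 2 := by
      rw [sq, ← hs χ, Finset.sum_mul_sum, Finset.sum_comm, Finset.mul_sum, Finset.mul_sum]
      refine Finset.sum_congr rfl fun x _ => ?_
      rw [Finset.sum_comm, Finset.mul_sum, Finset.mul_sum]
      refine Finset.sum_congr rfl fun y _ => ?_
      rw [← hd, sum_conj_mul]
    rw [← h2, Finset.sum_congr rfl fun g _ => Finset.sum_congr rfl fun x _ => hinner g x]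
    simp only [Finset.sum_add_distrib, Finset.sum_const, Finset.card_univ, nsmul_eq_mul,
      ← Nat.card_eq_fintype_card, ← hq]
    ring
  -- multiply by `v` and add
  set U : ℝ := ∑ χ ∈ B, v χ ^ 2 with hU
  have hcube : ∑ χ ∈ B, v χ ^ 3 / d χ = ((q : ℝ) - 2) * U := by
    have hQ0 : ∑ χ ∈ B, (∑ g : G, ∑ x : H, (χ : G → ℂ) (Q g x)) * (v χ : ℂ) = 0 := by
      simp only [Finset.sum_mul]
      rw [Finset.sum_comm]
      refine Finset.sum_eq_zero fun g _ => ?_
      rw [Finset.sum_comm]
      exact Finset.sum_eq_zero fun x _ => horth _ (hQr g x)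
    have hterm : ∀ χ ∈ B, (∑ g : G, ∑ x : H, (χ : G → ℂ) (Q g x)) * (v χ : ℂ) =
        (((Nat.card G : ℝ) * (v χ ^ 3 / d χ + (2 - (q : ℝ)) * v χ ^ 2 + d χ * v χ) : ℝ) : ℂ) := by
      intro χ hχ
      have hk := hkey χ hχ
      have hd' : (d χ : ℂ) ≠ 0 := Nat.cast_ne_zero.mpr (hd0 χ).ne'
      have hv' : (q : ℂ) * k χ = (v χ : ℂ) + d χ := by rw [hvdef]; push_cast; ring
      rw [hv'] at hk
      push_cast
      field_simp
      linear_combination (-(v χ : ℂ)) * hk
    rw [Finset.sum_congr rfl hterm, ← Complex.ofReal_sum, Complex.ofReal_eq_zero, ← Finset.mul_sum,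
      mul_eq_zero, or_iff_right (Nat.cast_ne_zero.mpr Nat.card_pos.ne'), Finset.sum_add_distrib,
      Finset.sum_add_distrib, ← Finset.mul_sum, hdv, add_zero] at hQ0
    rw [hU]
    linarith
  -- the upper bound
  set β : ℝ := 2 * q / (p + 1) - 1 with hβ
  have hqp : p ≤ q := by
    obtain ⟨j, hj⟩ := IsPGroup.iff_card.mp h.pgroup
    have hj0 : j ≠ 0 := by
      rintro rfl
      exact hH (Subgroup.card_eq_one.mp (by simpa using hj))
    rw [hq, hj]
    exact Nat.le_self_pow hj0 p
  have hp3 : 3 ≤ p := by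
    have := hp.two_le
    omega
  have hpR : (3 : ℝ) ≤ p := by exact_mod_cast hp3
  have hqR : (p : ℝ) ≤ q := by exact_mod_cast hqp
  have hβ0 : 0 < β := by
    rw [hβ, sub_pos, lt_div_iff₀ (by linarith)]
    linarith
  set t : IrrCharacter G := Blocks.trivIrr G with ht
  have htB : t ∈ B := by
    rw [hB, Finset.mem_filter, Blocks.principalBlock_eq]
    exact ⟨Finset.mem_univ _, Blocks.mem_blockOf_self (M := M) t⟩
  have hdt : d t = 1 := by
    have := hd t
    simp only [ht, Blocks.trivIrr] at this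
    exact_mod_cast this.symm
  have hvt : v t = (q : ℝ) - 1 := by
    have h1 := hs t
    simp only [ht, Blocks.trivIrr, Finset.sum_const, Finset.card_univ, nsmul_eq_mul, mul_one,
      ← Nat.card_eq_fintype_card, ← hq] at h1
    have hk1 : k t = 1 := by
      have h2 : (q : ℕ) = q * k t := by exact_mod_cast h1
      exact (mul_eq_left₀ Nat.card_pos.ne').mp h2.symm
    simp [hvdef, hk1, hdt]
  have hvle : ∀ χ ∈ B, χ ≠ t → v χ ≤ β * d χ := by
    intro χ _ hχt
    have h1 := h.fixed_bound hgen (fun e => hχt (Subtype.ext e)) (hk χ) (hd χ)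
    have h2 : ((p : ℝ) + 1) * k χ ≤ 2 * d χ := by exact_mod_cast h1
    have h3 : (k χ : ℝ) ≤ 2 * d χ / (p + 1) := by
      rw [le_div_iff₀ (by linarith)]; linarith
    have h4 := mul_le_mul_of_nonneg_left h3 (Nat.cast_nonneg (α := ℝ) q)
    simp only [hvdef, hβ]
    have h5 : (q : ℝ) * (2 * d χ / (p + 1)) = 2 * q / (p + 1) * d χ := by ring
    linarith
  have hterm3 : ∀ χ ∈ B.erase t, v χ ^ 3 / d χ ≤ β * v χ ^ 2 := by
    intro χ hχ
    obtain ⟨hχt, hχB⟩ := Finset.mem_erase.mp hχ
    have hd' : (0 : ℝ) < d χ := by exact_mod_cast hd0 χ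
    rw [div_le_iff₀ hd']
    nlinarith [mul_le_mul_of_nonneg_left (hvle χ hχB hχt) (sq_nonneg (v χ))]
  obtain ⟨χn, hχn, hvn⟩ : ∃ χ ∈ B.erase t, v χ < 0 := by
    by_contra hc
    push Not at hc
    rw [← Finset.add_sum_erase _ _ htB, hdt, hvt, Nat.cast_one, one_mul] at hdv
    have h1 : (0 : ℝ) ≤ ∑ χ ∈ B.erase t, (d χ : ℝ) * v χ :=
      Finset.sum_nonneg fun χ hχ => mul_nonneg (Nat.cast_nonneg _) (hc χ hχ)
    linarith
  have hlt : ∑ χ ∈ B.erase t, v χ ^ 3 / d χ < ∑ χ ∈ B.erase t, β * v χ ^ 2 := by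
    refine Finset.sum_lt_sum hterm3 ⟨χn, hχn, ?_⟩
    have hd' : (0 : ℝ) < d χn := by exact_mod_cast hd0 χn
    have hv2 : 0 < v χn ^ 2 := sq_pos_of_ne_zero hvn.ne
    rw [div_lt_iff₀ hd']
    nlinarith [mul_pos (mul_pos hβ0 hv2) hd', mul_neg_of_pos_of_neg hv2 hvn]
  have hUlt : ((q : ℝ) - 2 - β) * U < ((q : ℝ) - 1) ^ 2 * ((q : ℝ) - 1 - β) := by
    rw [← Finset.mul_sum] at hlt
    have e1 := Finset.add_sum_erase _ (fun χ => v χ ^ 3 / d χ) htB
    have e2 := Finset.add_sum_erase _ (fun χ => v χ ^ 2) htB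
    simp only [hdt, hvt, Nat.cast_one, div_one] at e1 e2
    rw [← hU] at e2
    rw [hcube] at e1
    have e3 : ∑ χ ∈ B.erase t, v χ ^ 2 = U - ((q : ℝ) - 1) ^ 2 := by linarith
    rw [e3] at hlt
    linarith
  -- the lower bound
  set S : H → H → ℂ := fun x y => ∑ χ ∈ B, (χ : G → ℂ) x * conj ((χ : G → ℂ) y) with hS
  have hUS : (U : ℂ) = ∑ x ∈ Hs, ∑ y ∈ Hs, S x y := by
    rw [hU]
    push_cast
    rw [Finset.sum_congr rfl fun x _ => Finset.sum_comm, Finset.sum_comm]
    refine Finset.sum_congr rfl fun χ _ => ?_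
    rw [← Finset.sum_mul_sum, ← map_sum, hvc, Complex.conj_ofReal, sq]
  set col : H → ℕ := fun x => ∑ᶠ ψ ∈ principalBlock M ↥(Subgroup.centralizer ({(x : G)} : Set G)),
    charDegree (ψ : Subgroup.centralizer ({(x : G)} : Set G) → ℂ) ^ 2 with hcol
  have hSeq : ∀ x y : H, IsConj (x : G) y → S x y = (col x : ℂ) := by
    intro x y hxy
    have h1 := Blocks.sum_principal_norm_sq hM (hHord _ x.2)
    rw [hcol, ← h1]
    simp only [hS, hB]
    exact Finset.sum_congr rfl fun χ _ => by rw [eq_of_isConj (Blocks.irr_classFunction χ) hxy]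
  have hS0 : ∀ x y : H, ¬ IsConj (x : G) y → S x y = 0 := fun x y hxy => by
    rw [hS, hB]
    exact Blocks.sum_block_eq_zero_of_not_isConj hM (a := (x : G)) (b := (y : G))
      ⟨1, mul_one _, Commute.one_right _, hHord _ x.2, hreg1⟩
      ⟨1, mul_one _, Commute.one_right _, hHord _ y.2, hreg1⟩ hxy Blocks.isPBlock_principalBlock
  set orb : H → Finset H := fun x => Hs.filter fun y : H => IsConj (x : G) y with horb
  have hUnat : U = ((∑ x ∈ Hs, (orb x).card * col x : ℕ) : ℝ) := by
    apply Complex.ofReal_injective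
    rw [hUS, Complex.ofReal_natCast, Nat.cast_sum]
    refine Finset.sum_congr rfl fun x _ => ?_
    rw [horb, Nat.cast_mul]
    dsimp only
    rw [← Finset.sum_filter_add_sum_filter_not Hs (fun y : H => IsConj (x : G) y),
      Finset.sum_congr rfl fun y hy => hSeq x y (Finset.mem_filter.mp hy).2,
      Finset.sum_eq_zero (s := Hs.filter _) fun y hy => hS0 x y (Finset.mem_filter.mp hy).2,
      Finset.sum_const, nsmul_eq_mul, add_zero]
  have hHscard : Hs.card + 1 = q := by
    rw [hHs, Finset.card_erase_add_one (Finset.mem_univ _), Finset.card_univ, hq,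
      Nat.card_eq_fintype_card]
  have hself : ∀ x ∈ Hs, x ∈ orb x := fun x hx => Finset.mem_filter.mpr ⟨hx, IsConj.refl _⟩
  have hcolq : ∀ x : H, q ≤ col x := fun x => card_le_principal_column hM h.pgroup fun y hy =>
    Subgroup.mem_centralizer_singleton_iff.mpr (h.mul_comm_mem hy x.2)
  have hlow : q * (q + 1) ≤ ∑ x ∈ Hs, (orb x).card * col x := by
    by_cases hfus : ∃ x ∈ Hs, ∃ y ∈ Hs, x ≠ y ∧ IsConj (x : G) y
    · obtain ⟨x, hx, y, hy, hxy, hc⟩ := hfus
      have h2 : ∀ z ∈ Hs, q + (if z = x then q else 0) + (if z = y then q else 0) ≤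
          (orb z).card * col z := by
        intro z hz
        have hpos : 1 ≤ (orb z).card := Finset.card_pos.mpr ⟨z, hself z hz⟩
        have hcz := hcolq z
        have htwo : (z = x ∨ z = y) → 2 ≤ (orb z).card := by
          intro hz'
          refine Finset.one_lt_card.mpr ?_
          rcases hz' with rfl | rfl
          · exact ⟨z, hself z hz, y, Finset.mem_filter.mpr ⟨hy, hc⟩, hxy⟩
          · exact ⟨z, hself z hz, x, Finset.mem_filter.mpr ⟨hx, hc.symm⟩, hxy.symm⟩
        by_cases hzx : z = x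
        · rw [if_pos hzx, if_neg (hzx ▸ hxy), add_zero]
          refine le_trans ?_ (Nat.mul_le_mul (htwo (Or.inl hzx)) hcz)
          omega
        by_cases hzy : z = y
        · rw [if_neg hzx, if_pos hzy, add_zero]
          refine le_trans ?_ (Nat.mul_le_mul (htwo (Or.inr hzy)) hcz)
          omega
        rw [if_neg hzx, if_neg hzy]
        refine le_trans ?_ (Nat.mul_le_mul hpos hcz)
        omega
      refine le_trans (le_of_eq ?_) (Finset.sum_le_sum h2)
      rw [Finset.sum_add_distrib, Finset.sum_add_distrib, Finset.sum_ite_eq', Finset.sum_ite_eq',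
        if_pos hx, if_pos hy, Finset.sum_const, smul_eq_mul, mul_comm q, ← hHscard]
      ring
    · push Not at hfus
      have hcent : ∀ x ∈ Subgroup.normalizer (H : Set G), ∀ y ∈ H, x * y = y * x := by
        intro x hx y hy
        by_cases hy1 : y = 1
        · subst hy1; simp
        have hxy := conj_mem_of_mem_normalizer hx hy
        have hmem : ∀ {z : G} (hz : z ∈ H), z ≠ 1 → (⟨z, hz⟩ : H) ∈ Hs := fun hz hz1 =>
          Finset.mem_erase.mpr ⟨fun e => hz1 (congrArg Subtype.val e), Finset.mem_univ _⟩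
        have hxy1 : x * y * x⁻¹ ≠ 1 := fun e => hy1 (conj_eq_one_iff.mp e)
        by_contra hne'
        refine hfus _ (hmem hy hy1) _ (hmem hxy hxy1) (fun e => hne' ?_) (isConj_iff.mpr ⟨x, rfl⟩)
        exact mul_inv_eq_iff_eq_mul.mp (congrArg Subtype.val e).symm
      obtain ⟨P, hP⟩ := h.pgroup.exists_le_sylow
      have hPne : (P : Subgroup G) ≠ H := by
        intro hPH
        refine hne ?_
        have hPc : Subgroup.normalizer ((P : Subgroup G) : Set G) ≤
            Subgroup.centralizer ((P : Subgroup G) : Set G) := by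
          rw [hPH]
          exact fun x hx => Subgroup.mem_centralizer_iff.mpr fun y hy => (hcent x hx y hy).symm
        have h0 := MonoidHom.ker_transferSylow_isComplement' P hPc
        have hker : (MonoidHom.transferSylow P hPc).ker = ⊥ := by
          rw [eq_bot_iff, ← hO]
          exact Transfer.le_pPrimeCore (MonoidHom.normal_ker _) (hp.coprime_iff_not_dvd.mpr
            (MonoidHom.not_dvd_card_ker_transferSylow P hPc)).symm
        rw [hker, Subgroup.isComplement'_bot_left] at h0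
        rw [← hPH, h0]
        exact le_top
      haveI := P.2.isNilpotent
      have hlt' : H.subgroupOf (P : Subgroup G) < ⊤ := by
        rw [lt_top_iff_ne_top, Ne, Subgroup.subgroupOf_eq_top]
        exact fun hle => hPne (le_antisymm hle hP)
      obtain ⟨x, hxn, hxH⟩ :=
        SetLike.exists_of_lt (Group.normalizerCondition_of_isNilpotent _ hlt')
      have hxN : (x : G) ∈ Subgroup.normalizer (H : Set G) :=
        mem_normalizer_of_conj_mem fun y hy =>
          (Subgroup.mem_normalizer_iff.mp hxn ⟨y, hP hy⟩).mp hy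
      set P1 : Subgroup G := (P : Subgroup G) ⊓ Subgroup.normalizer (H : Set G) with hP1
      have hP1p : IsPGroup p P1 := P.2.to_le inf_le_left
      have hH1 : H ≤ P1 := le_inf hP Subgroup.le_normalizer
      have hcard : p * q ≤ Nat.card P1 := by
        obtain ⟨i, hi⟩ := IsPGroup.iff_card.mp hP1p
        obtain ⟨j, hj⟩ := IsPGroup.iff_card.mp h.pgroup
        have hlt2 : q < Nat.card P1 := by
          refine lt_of_le_of_ne (Subgroup.card_le_of_le hH1) fun e => hxH ?_
          have := Subgroup.eq_of_le_of_card_ge hH1 e.ge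
          exact Subgroup.mem_subgroupOf.mpr (this ▸ (⟨x.2, hxN⟩ : (x : G) ∈ P1))
        rw [hq, hj] at hlt2 ⊢
        rw [hi] at hlt2 ⊢
        rw [← pow_succ']
        exact Nat.pow_le_pow_right hp.pos ((Nat.pow_lt_pow_iff_right hp.one_lt).mp hlt2)
      have hcolpq : ∀ x : H, p * q ≤ col x := fun x => hcard.trans
        (card_le_principal_column hM hP1p fun y hy =>
          Subgroup.mem_centralizer_singleton_iff.mpr (hcent y hy.2 x x.2))
      have hle : ∀ z ∈ Hs, p * q ≤ (orb z).card * col z := fun z hz => (hcolpq z).trans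
        (Nat.le_mul_of_pos_left _ (Finset.card_pos.mpr ⟨z, hself z hz⟩))
      refine le_trans ?_ (Finset.sum_le_sum hle)
      rw [Finset.sum_const, smul_eq_mul]
      have h1 : q + 1 ≤ Hs.card * p := by
        have h2 : 3 * Hs.card ≤ Hs.card * p := by rw [mul_comm]; exact Nat.mul_le_mul le_rfl hp3
        omega
      calc q * (q + 1) ≤ q * (Hs.card * p) := Nat.mul_le_mul le_rfl h1
        _ = Hs.card * (p * q) := by ring
  have hUge : (q : ℝ) * (q + 1) ≤ U := by
    rw [hUnat]; exact_mod_cast hlow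
  -- contradiction
  have hp1 : (0 : ℝ) < (p : ℝ) + 1 := by linarith
  have e1 : ((p : ℝ) + 1) * ((q : ℝ) - 2 - β) = q * ((p : ℝ) - 1) - ((p : ℝ) + 1) := by
    rw [hβ]; field_simp; ring
  have e2 : ((p : ℝ) + 1) * ((q : ℝ) - 1 - β) = q * ((p : ℝ) - 1) := by
    rw [hβ]; field_simp; ring
  have hD : 0 ≤ q * ((p : ℝ) - 1) - ((p : ℝ) + 1) := by nlinarith
  have h1 := mul_lt_mul_of_pos_left hUlt hp1
  rw [← mul_assoc, e1, mul_left_comm, e2] at h1
  have h2 := mul_le_mul_of_nonneg_left hUge hD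
  have h3 : 0 ≤ q * ((2 * (p : ℝ) - 4) * q - 2 * p) :=
    mul_nonneg (by linarith) (by nlinarith)
  nlinarith

end Hyp

end CfsgLib.ExtClosedP
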