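import Mathlib
import Cfsg.Prelude.Def_SubgroupEmbedding
import Cfsg.Agent.Lib.Transfer.Basic

/-!
# Extremely closed abelian `p`-subgroups: the retraction onto the normalizer

Every `g : G` is uniquely `r * n` with `n ∈ N(H)` and `r` an element of order prime to `p` lying in
the join of `H` and `r H r⁻¹`.  The map `g ↦ n` is multiplicative on a subgroup `M ≥ H` as soon as
all joins of three conjugates of `H` inside `M` meet `N(H)` in `H`.
-/

set_option autoImplicit false

namespace CfsgLib.ExtClosedP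

open Cfsg

variable {G : Type*} [Group G] [Finite G] {p : ℕ} [Fact p.Prime] {H : Subgroup G}

/-- Standing hypothesis. -/
structure Hyp (p : ℕ) (H : Subgroup G) : Prop where
  pgroup : IsPGroup p H
  comm : IsMulCommutative H
  closed : IsExtremelyClosed H

/-- The subgroup generated by `H` and its conjugate by `g`. -/
def kJoin (H : Subgroup G) (g : G) : Subgroup G := H ⊔ H.map (MulAut.conj g).toMonoidHom

/-- The subgroup generated by `H` and two conjugates. -/
def triple (H : Subgroup G) (a b : G) : Subgroup G := kJoin H a ⊔ kJoin H b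

/-- The distinguished coset representatives of `N(H)`. -/
def IsR (p : ℕ) (H : Subgroup G) (r : G) : Prop := r ∈ kJoin H r ∧ ¬ p ∣ orderOf r

theorem le_kJoin (H : Subgroup G) (g : G) : H ≤ kJoin H g := le_sup_left

theorem conj_mem_kJoin (H : Subgroup G) (g : G) {h : G} (hh : h ∈ H) :
    g * h * g⁻¹ ∈ kJoin H g :=
  Subgroup.mem_sup_right ⟨h, hh, rfl⟩

theorem kJoin_le {g : G} {K : Subgroup G} (h1 : H ≤ K) (h2 : ∀ h ∈ H, g * h * g⁻¹ ∈ K) :
    kJoin H g ≤ K := by
  refine sup_le h1 ?_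
  rintro _ ⟨h, hh, rfl⟩
  exact h2 h hh

theorem kJoin_le_of_mem {g : G} {K : Subgroup G} (h1 : H ≤ K) (hg : g ∈ K) : kJoin H g ≤ K :=
  kJoin_le h1 fun _ hh => mul_mem (mul_mem hg (h1 hh)) (inv_mem hg)

theorem mem_normalizer_of_conj_mem {x : G} (h : ∀ y ∈ H, x * y * x⁻¹ ∈ H) :
    x ∈ Subgroup.normalizer (H : Set G) := by
  have he : H.map (MulAut.conj x).toMonoidHom = H := by
    refine Subgroup.eq_of_le_of_card_ge ?_ ?_
    · rintro _ ⟨y, hy, rfl⟩
      exact h y hy
    · rw [Subgroup.card_map_of_injective (MulAut.conj x).injective]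
  rw [Subgroup.mem_normalizer_iff]
  intro y
  refine ⟨h y, fun hy => ?_⟩
  obtain ⟨z, hz, hzy⟩ := he.ge hy
  have : z = y := by simpa using hzy
  exact this ▸ hz

theorem conj_mem_of_mem_normalizer {x y : G} (hx : x ∈ Subgroup.normalizer (H : Set G))
    (hy : y ∈ H) : x * y * x⁻¹ ∈ H :=
  (Subgroup.mem_normalizer_iff.mp hx y).mp hy

theorem kJoin_mul_normalizer (g : G) {n : G} (hn : n ∈ Subgroup.normalizer (H : Set G)) :
    kJoin H (g * n) = kJoin H g := by
  refine le_antisymm (kJoin_le (le_kJoin H g) fun y hy => ?_)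
    (kJoin_le (le_kJoin H _) fun y hy => ?_)
  · have := conj_mem_kJoin H g (conj_mem_of_mem_normalizer hn hy)
    simpa [mul_assoc] using this
  · have := conj_mem_kJoin H (g * n) (conj_mem_of_mem_normalizer (inv_mem hn) hy)
    simpa [mul_assoc] using this

omit [Finite G] in
theorem mem_of_pow_mem {N : Subgroup G} {x : G} {m : ℕ} (hm : x ^ m ∈ N)
    (hc : m.Coprime (orderOf x)) : x ∈ N := by
  obtain ⟨k, hk⟩ := exists_pow_eq_self_of_coprime hc
  exact hk ▸ pow_mem hm k

theorem not_dvd_orderOf {R : Subgroup G} (hR : ¬ p ∣ Nat.card R) {x : G} (hx : x ∈ R) :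
    ¬ p ∣ orderOf x := fun hd => hR (hd.trans (R.orderOf_dvd_natCard hx))

omit [Finite G] [Fact p.Prime] in
theorem eq_one_of_regular {P : Subgroup G} (hP : IsPGroup p P) {x : G} (hx : x ∈ P)
    (hr : ¬ p ∣ orderOf x) (hp : p.Prime) : x = 1 := by
  have := Fact.mk hp
  obtain ⟨k, hk⟩ := IsPGroup.iff_orderOf.mp hP ⟨x, hx⟩
  rw [← Subgroup.orderOf_coe] at hk
  rcases k with _ | k
  · exact orderOf_eq_one_iff.mp hk
  · exact absurd (dvd_pow_self p k.succ_ne_zero) (hk ▸ hr)

namespace Hyp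

variable (h : Hyp p H)
include h

omit [Finite G] [Fact p.Prime] in
theorem mul_comm_mem {a b : G} (ha : a ∈ H) (hb : b ∈ H) : a * b = b * a := by
  haveI := h.comm
  exact congrArg Subtype.val (mul_comm' (⟨a, ha⟩ : H) ⟨b, hb⟩)

theorem mem_of_conj_mem_normalizer {g x : G} (hx : x ∈ kJoin H g)
    (hn : x ∈ Subgroup.normalizer (H : Set G)) : x ∈ H :=
  (h.closed g).le ⟨hx, hn⟩

/-- A subgroup over `H` meeting `N(H)` in `H` has a normal `p`-complement. -/
theorem exists_complement {X : Subgroup G} (hHX : H ≤ X)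
    (hX : ∀ x ∈ X, x ∈ Subgroup.normalizer (H : Set G) → x ∈ H) :
    ∃ R : Subgroup G, R ≤ X ∧ X ≤ Subgroup.normalizer (R : Set G) ∧ ¬ p ∣ Nat.card R ∧
    (∀ x ∈ X, ∃ r ∈ R, ∃ k ∈ H, x = r * k) ∧
    (∀ x ∈ R, x ∈ Subgroup.normalizer (H : Set G) → x = 1) ∧
    (∀ x ∈ X, ¬ p ∣ orderOf x → x ∈ R) ∧
    ∀ g : G, (∀ y ∈ H, g * y * g⁻¹ ∈ X) →
      ∃ r ∈ R, r⁻¹ * g ∈ Subgroup.normalizer (H : Set G) := by
  classical
  have hp : p.Prime := Fact.out
  let S : Subgroup X := H.subgroupOf X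
  have hSnorm : ∀ x : X, x ∈ Subgroup.normalizer (S : Set X) → x ∈ S := by
    intro x hx
    refine Subgroup.mem_subgroupOf.mpr (hX x x.2 ?_)
    refine mem_normalizer_of_conj_mem fun y hy => ?_
    exact ((Subgroup.mem_normalizer_iff.mp hx ⟨y, hHX hy⟩).mp hy)
  have hS2 : IsPGroup p S := h.pgroup.comap_of_injective X.subtype X.subtype_injective
  obtain ⟨P, hP⟩ := hS2.exists_le_sylow
  have hPS : (P : Subgroup X) = S := by
    refine le_antisymm ?_ hP
    by_contra hne
    have hlt : S.subgroupOf (P : Subgroup X) < ⊤ := by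
      rw [lt_top_iff_ne_top, Ne, Subgroup.subgroupOf_eq_top]
      exact hne
    haveI := P.2.isNilpotent
    obtain ⟨x, hxn, hxS⟩ :=
      SetLike.exists_of_lt (Group.normalizerCondition_of_isNilpotent _ hlt)
    refine hxS (Subgroup.mem_subgroupOf.mpr (hSnorm x ?_))
    rw [Subgroup.mem_normalizer_iff]
    intro y
    by_cases hy : y ∈ (P : Subgroup X)
    · exact Subgroup.mem_normalizer_iff.mp hxn ⟨y, hy⟩
    · constructor
      · intro hyS; exact absurd (hP hyS) hy
      · intro hyS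
        refine absurd ?_ hy
        have := mul_mem (mul_mem (inv_mem x.2) (hP hyS)) x.2
        simpa [mul_assoc] using this
  have hcent : Subgroup.normalizer ((P : Subgroup X) : Set X) ≤
      Subgroup.centralizer ((P : Subgroup X) : Set X) := by
    intro x hx
    rw [hPS] at hx ⊢
    rw [Subgroup.mem_centralizer_iff]
    intro y hy
    exact Subtype.ext (h.mul_comm_mem hy (hSnorm x hx))
  obtain ⟨N, hNn, hc, hNp⟩ : ∃ N : Subgroup X, N.Normal ∧
      N.IsComplement' (P : Subgroup X) ∧ ¬ p ∣ Nat.card N :=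
    ⟨_, MonoidHom.normal_ker _, MonoidHom.ker_transferSylow_isComplement' P hcent,
      MonoidHom.not_dvd_card_ker_transferSylow P hcent⟩
  set R := N.map X.subtype with hR
  have hRX : R ≤ X := Subgroup.map_subtype_le _
  have hRp : ¬ p ∣ Nat.card R := by
    rw [hR, Subgroup.card_map_of_injective X.subtype_injective]
    exact hNp
  have hXR : X ≤ Subgroup.normalizer (R : Set G) := by
    intro x hx
    refine mem_normalizer_of_conj_mem ?_
    rintro _ ⟨y, hy, rfl⟩
    exact ⟨⟨x, hx⟩ * y * ⟨x, hx⟩⁻¹, hNn.conj_mem y hy ⟨x, hx⟩, rfl⟩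
  have hdec : ∀ x : X, ∃ r ∈ N, ∃ k ∈ (P : Subgroup X), x = r * k := by
    intro x
    have hx : x ∈ N ⊔ (P : Subgroup X) := hc.sup_eq_top ▸ Subgroup.mem_top x
    obtain ⟨r, hr, k, hk, e⟩ := Subgroup.mem_sup_of_normal_left.mp hx
    exact ⟨r, hr, k, hk, e.symm⟩
  refine ⟨R, hRX, hXR, hRp, ?_, ?_, ?_, ?_⟩
  · intro x hx
    obtain ⟨r, hr, k, hk, e⟩ := hdec ⟨x, hx⟩
    exact ⟨r, ⟨r, hr, rfl⟩, k, (hPS ▸ hk : k ∈ S), congrArg Subtype.val e⟩
  · intro x hx hxn
    exact eq_one_of_regular h.pgroup (hX x (hRX hx) hxn) (not_dvd_orderOf hRp hx) hp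
  · intro x hx hxr
    refine ⟨⟨x, hx⟩, ?_, rfl⟩
    obtain ⟨j, hj⟩ := IsPGroup.iff_card.mp P.2
    refine mem_of_pow_mem (m := Nat.card (P : Subgroup X)) ?_ ?_
    · rw [← hc.symm.index_eq_card]
      exact N.pow_index_mem _
    · rw [hj, ← Subgroup.orderOf_coe]
      exact Nat.Coprime.pow_left j (hp.coprime_iff_not_dvd.mpr hxr)
  · intro g hg
    let T : Subgroup G := H.map (MulAut.conj g).toMonoidHom
    have hTX : T ≤ X := by
      rintro _ ⟨y, hy, rfl⟩
      exact hg y hy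
    have hT2 : IsPGroup p (T.subgroupOf X) :=
      (h.pgroup.map _).comap_of_injective X.subtype X.subtype_injective
    obtain ⟨P2, hP2⟩ := hT2.exists_le_sylow
    have hP2eq : (P2 : Subgroup X) = T.subgroupOf X := by
      refine (Subgroup.eq_of_le_of_card_ge hP2 ?_).symm
      have e1 : Nat.card (T.subgroupOf X) = Nat.card S := by
        rw [Nat.card_congr (Subgroup.subgroupOfEquivOfLe hTX).toEquiv,
          Nat.card_congr (Subgroup.subgroupOfEquivOfLe hHX).toEquiv]
        exact Subgroup.card_map_of_injective (MulAut.conj g).injective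
      rw [e1, ← hPS, P.card_eq_multiplicity, P2.card_eq_multiplicity]
    obtain ⟨c, hcP⟩ := MulAction.exists_smul_eq X P P2
    obtain ⟨r, hr, k, hk, e⟩ := hdec c
    refine ⟨r, ⟨r, hr, rfl⟩, ?_⟩
    refine mem_normalizer_of_conj_mem fun y hy => ?_
    have hgy : (⟨g * y * g⁻¹, hg y hy⟩ : X) ∈ (P2 : Subgroup X) := by
      rw [hP2eq]
      exact ⟨y, hy, rfl⟩
    rw [← hcP, Sylow.coe_subgroup_smul, Subgroup.mem_pointwise_smul_iff_inv_smul_mem,
      hPS] at hgy
    have hk' : (k : G) ∈ H := (hPS ▸ hk : k ∈ S)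
    have := conj_mem_of_mem_normalizer
      (Subgroup.le_normalizer hk') (show ((c : G))⁻¹ * (g * y * g⁻¹) * (c : G) ∈ H by
        simpa [MulAut.smul_def, Subgroup.mem_subgroupOf, S] using hgy)
    have ec : (c : G) = (r : G) * (k : G) := congrArg Subtype.val e
    rw [ec] at this
    simpa [mul_assoc] using this

theorem exists_kJoin_complement (g : G) : ∃ R : Subgroup G, R ≤ kJoin H g ∧
    kJoin H g ≤ Subgroup.normalizer (R : Set G) ∧ ¬ p ∣ Nat.card R ∧
    (∀ x ∈ kJoin H g, ∃ r ∈ R, ∃ k ∈ H, x = r * k) ∧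
    (∀ x ∈ R, x ∈ Subgroup.normalizer (H : Set G) → x = 1) ∧
    (∀ x ∈ kJoin H g, ¬ p ∣ orderOf x → x ∈ R) ∧
    ∃ r ∈ R, r⁻¹ * g ∈ Subgroup.normalizer (H : Set G) := by
  obtain ⟨R, h1, h2, h3, h4, h5, h6, h7⟩ :=
    h.exists_complement (le_kJoin H g) fun x hx hn => h.mem_of_conj_mem_normalizer hx hn
  exact ⟨R, h1, h2, h3, h4, h5, h6, h7 g fun y hy => conj_mem_kJoin H g hy⟩

theorem exists_factor (g : G) : ∃ n ∈ Subgroup.normalizer (H : Set G), IsR p H (g * n⁻¹) := by
  obtain ⟨R, hRK, -, hRp, -, -, -, r, hr, hn⟩ := h.exists_kJoin_complement g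
  refine ⟨_, hn, ?_⟩
  rw [mul_inv_rev, inv_inv, mul_inv_cancel_left]
  refine ⟨?_, not_dvd_orderOf hRp hr⟩
  have e : kJoin H r = kJoin H g := by
    conv_lhs => rw [← kJoin_mul_normalizer r hn, mul_inv_cancel_left]
  rw [e]
  exact hRK hr

/-- The `N(H)`-part of `g`. -/
noncomputable def nPart (g : G) : G := (h.exists_factor g).choose

theorem nPart_mem (g : G) : h.nPart g ∈ Subgroup.normalizer (H : Set G) :=
  (h.exists_factor g).choose_spec.1

theorem isR_div (g : G) : IsR p H (g * (h.nPart g)⁻¹) :=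
  (h.exists_factor g).choose_spec.2

theorem exists_eq_mul (g : G) : ∃ r, IsR p H r ∧ g = r * h.nPart g :=
  ⟨_, h.isR_div g, (inv_mul_cancel_right _ _).symm⟩

theorem nPart_eq {g r n : G} (hn : n ∈ Subgroup.normalizer (H : Set G)) (hr : IsR p H r)
    (e : g = r * n) : h.nPart g = n := by
  obtain ⟨R, -, -, -, -, htriv, hreg, -⟩ := h.exists_kJoin_complement g
  obtain ⟨r', hr', e'⟩ := h.exists_eq_mul g
  have k1 : r ∈ R := hreg r (by rw [e, kJoin_mul_normalizer r hn]; exact hr.1) hr.2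
  have k2 : r' ∈ R := hreg r' (by rw [e', kJoin_mul_normalizer r' (h.nPart_mem g)]; exact hr'.1)
    hr'.2
  have e1 : r'⁻¹ * r = h.nPart g * n⁻¹ := by
    rw [inv_mul_eq_iff_eq_mul, ← mul_assoc, ← e', e, mul_inv_cancel_right]
  have := htriv _ (mul_mem (inv_mem k2) k1)
    (by rw [e1]; exact mul_mem (h.nPart_mem g) (inv_mem hn))
  rw [e1, mul_inv_eq_one] at this
  exact this

theorem nPart_of_mem {n : G} (hn : n ∈ Subgroup.normalizer (H : Set G)) : h.nPart n = n := by
  refine h.nPart_eq hn (r := 1) ⟨one_mem _, ?_⟩ (one_mul n).symm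
  rw [orderOf_one, Nat.dvd_one]
  exact (Fact.out : p.Prime).ne_one

theorem nPart_eq_one_iff {g : G} : h.nPart g = 1 ↔ IsR p H g := by
  refine ⟨fun e => ?_, fun hg => h.nPart_eq (one_mem _) hg (mul_one g).symm⟩
  have := h.isR_div g
  rwa [e, inv_one, mul_one] at this

theorem nPart_mul_normalizer (g : G) {n : G} (hn : n ∈ Subgroup.normalizer (H : Set G)) :
    h.nPart (g * n) = h.nPart g * n := by
  obtain ⟨r, hr, e⟩ := h.exists_eq_mul g
  exact h.nPart_eq (mul_mem (h.nPart_mem g) hn) hr (by rw [← mul_assoc, ← e])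

theorem isR_conj {r n : G} (hr : IsR p H r) (hn : n ∈ Subgroup.normalizer (H : Set G)) :
    IsR p H (n * r * n⁻¹) := by
  refine ⟨?_, ?_⟩
  · have hle : kJoin H r ≤ (kJoin H (n * r * n⁻¹)).comap (MulAut.conj n).toMonoidHom :=
      kJoin_le (fun y hy => le_kJoin H _ (conj_mem_of_mem_normalizer hn hy)) fun y hy => by
        show n * (r * y * r⁻¹) * n⁻¹ ∈ kJoin H (n * r * n⁻¹)
        rw [kJoin_mul_normalizer _ (inv_mem hn)]
        have := conj_mem_kJoin H (n * r) hy
        simpa [mul_assoc] using this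
    exact hle hr.1
  · have := MulEquiv.orderOf_eq (MulAut.conj n) r
    simp only [MulAut.conj_apply] at this
    rw [this]
    exact hr.2

/-- An element of order prime to `p` of a complemented overgroup is a representative. -/
theorem isR_of_mem {X : Subgroup G} (hHX : H ≤ X)
    (hX : ∀ x ∈ X, x ∈ Subgroup.normalizer (H : Set G) → x ∈ H) {t : G} (ht : t ∈ X)
    (htr : ¬ p ∣ orderOf t) : IsR p H t := by
  obtain ⟨R, hRX, -, -, -, htriv, hreg, -⟩ := h.exists_complement hHX hX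
  rw [← h.nPart_eq_one_iff]
  obtain ⟨r, hr, e⟩ := h.exists_eq_mul t
  have hrX : r ∈ X := by
    have h2 := hr.1
    rw [← kJoin_mul_normalizer r (h.nPart_mem t), ← e] at h2
    exact kJoin_le_of_mem hHX ht h2
  refine htriv _ ?_ (h.nPart_mem t)
  rw [show h.nPart t = r⁻¹ * t from eq_inv_mul_iff_mul_eq.mpr e.symm]
  exact mul_mem (inv_mem (hreg r hrX hr.2)) (hreg t ht htr)

/-- Multiplicativity from the property of triples. -/
theorem nPart_mul {M : Subgroup G} (hHM : H ≤ M)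
    (hM : ∀ a ∈ M, ∀ b ∈ M, ∀ x ∈ triple H a b,
      x ∈ Subgroup.normalizer (H : Set G) → x ∈ H) {g g' : G} (hg : g ∈ M) (hg' : g' ∈ M) :
    h.nPart (g * g') = h.nPart g * h.nPart g' := by
  obtain ⟨r, hr, e⟩ := h.exists_eq_mul g
  obtain ⟨s, hs, e'⟩ := h.exists_eq_mul g'
  have mem : ∀ {x y : G}, x ∈ M → IsR p H y → x = y * h.nPart x → y ∈ M ∧ h.nPart x ∈ M := by
    intro x y hx hy hxy
    have h1 : y ∈ M := by
      have h2 := hy.1
      rw [← kJoin_mul_normalizer y (h.nPart_mem x), ← hxy] at h2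
      exact kJoin_le_of_mem hHM hx h2
    exact ⟨h1, by rw [eq_inv_mul_iff_mul_eq.mpr hxy.symm]; exact mul_mem (inv_mem h1) hx⟩
  obtain ⟨hrM, hnM⟩ := mem hg hr e
  obtain ⟨hsM, -⟩ := mem hg' hs e'
  set n := h.nPart g
  set n' := h.nPart g'
  have hn : n ∈ Subgroup.normalizer (H : Set G) := h.nPart_mem g
  set s' := n * s * n⁻¹ with hs'
  have hs'R : IsR p H s' := h.isR_conj hs hn
  have hs'M : s' ∈ M := mul_mem (mul_mem hnM hsM) (inv_mem hnM)
  -- the join of `H` and its conjugates by `r` and by `r * s'`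
  set X := triple H r (r * s') with hX
  have hHX : H ≤ X := (le_kJoin H r).trans le_sup_left
  have hrX : r ∈ X := Subgroup.mem_sup_left hr.1
  have hsX : s' ∈ X := by
    have hle : kJoin H s' ≤ X.comap (MulAut.conj r).toMonoidHom := by
      refine kJoin_le (fun y hy => ?_) fun y hy => ?_
      · show r * y * r⁻¹ ∈ X
        exact Subgroup.mem_sup_left (conj_mem_kJoin H r hy)
      · show r * (s' * y * s'⁻¹) * r⁻¹ ∈ X
        rw [show r * (s' * y * s'⁻¹) * r⁻¹ = r * s' * y * (r * s')⁻¹ by group]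
        exact Subgroup.mem_sup_right (conj_mem_kJoin H (r * s') hy)
    have h1 : r * s' * r⁻¹ ∈ X := hle hs'R.1
    have := mul_mem (mul_mem (inv_mem hrX) h1) hrX
    simpa [mul_assoc] using this
  have hXN := hM r hrM (r * s') (mul_mem hrM hs'M)
  obtain ⟨R, -, -, hRp, -, -, hreg, -⟩ := h.exists_complement hHX hXN
  have hrs : r * s' ∈ R := mul_mem (hreg r hrX hr.2) (hreg s' hsX hs'R.2)
  have hR : IsR p H (r * s') :=
    h.isR_of_mem hHX hXN (mul_mem hrX hsX) (not_dvd_orderOf hRp hrs)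
  exact h.nPart_eq (mul_mem hn (h.nPart_mem g')) hR (by rw [e, e', hs']; group)

attribute [irreducible] nPart

end Hyp

end CfsgLib.ExtClosedP
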