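import Cfsg.Agent.Lib.ExtClosedP.Coset
import Cfsg.Agent.Lib.ExtClosedP.Fixed
import Cfsg.Agent.Lib.Char.GlaubermanCompat
import Cfsg.Agent.Lib.Char.PowerExtension
import Cfsg.Agent.Lib.Char.ClassProd

/-!
# The coprime case: `G = O H` with `O` of order prime to `p`

An invariant irreducible character of `O` is trivial, so `C_O(H) = 1`.
-/

set_option autoImplicit false

namespace CfsgLib.ExtClosedP

open Cfsg CfsgLib.Char CfsgLib.Char.Canonical
open scoped ComplexConjugate CfsgLib.Char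

universe u

/-- A group with a single irreducible character is trivial. -/
theorem subsingleton_of_irr {C : Type u} [Group C] [Fintype C]
    (hone : ∀ φ : IrrCharacter C, (φ : C → ℂ) = fun _ => 1) : Subsingleton C := by
  classical
  refine ⟨fun x y => ?_⟩
  suffices h : ∀ z : C, z = 1 by rw [h x, h y]
  intro z
  by_contra hz
  set f : C → ℂ := fun g => if g = 1 then 1 else 0 with hf
  have hcl : IsClassFunction C f := fun g a => by
    simp only [hf, conj_eq_one_iff]
  have h := classFunction_expansion hcl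
  have h1 := congrFun h 1
  have h2 := congrFun h z
  simp only [Finset.sum_apply, Pi.smul_apply, hone, smul_eq_mul, mul_one] at h1 h2
  rw [← h1] at h2
  simp [hf, hz] at h2

variable {G : Type u} [Group G] [Fintype G] {p : ℕ} [Fact p.Prime] {H : Subgroup G}

/-- An invariant constituent of the restriction to an invariant subgroup. -/
theorem exists_inv_constituent {S D T : Subgroup G} [Fintype D] [Fintype T] (hTD : T ≤ D)
    (hSD : S ≤ Subgroup.normalizer (D : Set G)) (hST : S ≤ Subgroup.normalizer (T : Set G))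
    (hpS : IsPGroup p S) (hD : ¬ p ∣ Nat.card D) {χ : IrrCharacter D}
    (hχ : Glauberman.Inv D S (χ : D → ℂ)) :
    ∃ φ : IrrCharacter T, Glauberman.Inv T S (φ : T → ℂ) ∧
      classInner (Glauberman.res hTD (χ : D → ℂ)) (φ : T → ℂ) ≠ 0 := by
  classical
  letI := Glauberman.charAction hST
  haveI := finite_irrCharacter (G := T)
  letI := Fintype.ofFinite (IrrCharacter T)
  choose a ha using fun φ : IrrCharacter T => exists_nat_classInner
    (Glauberman.isCharacter_res hTD (isCharacter_of_isIrr χ.2)) (isCharacter_of_isIrr φ.2)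
  have hfix : ∀ (s : S) (φ : IrrCharacter T), a (s • φ) = a φ := by
    intro s φ
    have e : (fun g => (χ : D → ℂ) (Glauberman.conjEquiv (hSD s.2) g)) = χ :=
      funext fun g => hχ s s.2 _ _ rfl
    have e2 : (fun n => ((s • φ : IrrCharacter T) : T → ℂ) (Glauberman.conjEquiv (hST s.2) n)) = φ :=
      funext fun n => congrArg (φ : T → ℂ) (MulEquiv.symm_apply_apply _ n)
    have := Glauberman.classInner_res_conj hTD (χ := (χ : D → ℂ))
      ((s • φ : IrrCharacter T) : T → ℂ) (hSD s.2) (hST s.2)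
    rw [e, e2, ha, ha, Nat.cast_inj] at this
    exact this.symm
  choose d hd hd' hdd using fun φ : IrrCharacter T => exists_degree_dvd_card φ.2
  obtain ⟨e, he, -, hed⟩ := exists_degree_dvd_card χ.2
  have hsum : ∑ φ, a φ * d φ = e := by
    have h1 := congrFun (classFunction_expansion (isClassFunction_of_isCharacter
      (Glauberman.isCharacter_res hTD (isCharacter_of_isIrr χ.2)))) 1
    simp only [Finset.sum_apply, Pi.smul_apply, smul_eq_mul, ha, hd] at h1
    have e1 : Glauberman.res hTD (χ : D → ℂ) 1 = (e : ℂ) := he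
    rw [e1] at h1
    have h2 : ((∑ φ, a φ * d φ : ℕ) : ℂ) = (e : ℂ) := by
      push_cast
      convert h1.symm using 2
    exact_mod_cast h2
  have hmod := Glauberman.sum_modEq_sum_fixed hpS (fun φ => a φ * d φ) fun s φ => by
    show a (s • φ) * d (s • φ) = a φ * d φ
    congr 1
    · exact hfix s φ
    · have h1 := hd (s • φ)
      rw [show ((s • φ : IrrCharacter T) : T → ℂ) 1 = (φ : T → ℂ) 1 from
        congrArg (φ : T → ℂ) (map_one _), hd, Nat.cast_inj] at h1
      exact h1.symm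
  by_contra h
  push Not at h
  rw [hsum, Finset.sum_eq_zero fun φ hφ => by
    rw [Finset.mem_filter] at hφ
    have h1 := h φ ((Glauberman.inv_iff_fixed hST φ).mp hφ.2)
    rw [ha φ, Nat.cast_eq_zero] at h1
    rw [h1, zero_mul]] at hmod
  exact hD ((Nat.modEq_zero_iff_dvd.mp hmod).trans hed)

namespace Hyp

variable (h : Hyp p H) {O : Subgroup G} [O.Normal] (hO : ¬ p ∣ Nat.card O) (htop : O ⊔ H = ⊤)
include h hO htop

omit hO in
theorem mem_core_of_regular {x : G} (hx : ¬ p ∣ orderOf x) : x ∈ O := by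
  obtain ⟨o, ho, k, hk, rfl⟩ :=
    Subgroup.mem_sup_of_normal_left.mp (htop ▸ Subgroup.mem_top x : x ∈ O ⊔ H)
  obtain ⟨j, hj⟩ := h.pgroup ⟨k, hk⟩
  have hk1 : k ^ p ^ j = 1 := by simpa using congrArg Subtype.val hj
  refine mem_of_pow_mem (m := p ^ j) ?_ (Nat.Coprime.pow_left j
    ((Fact.out : p.Prime).coprime_iff_not_dvd.mpr hx))
  rw [← QuotientGroup.eq_one_iff, ← QuotientGroup.mk'_apply, map_pow, map_mul,
    show QuotientGroup.mk' O o = 1 from (QuotientGroup.eq_one_iff o).mpr ho, one_mul, ← map_pow,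
    hk1, map_one]

omit htop in
theorem eq_one_of_mem_core {x : G} (hx : x ∈ O) (hxH : x ∈ H) : x = 1 :=
  eq_one_of_regular h.pgroup hxH (not_dvd_orderOf hO hx) Fact.out

omit htop in
theorem commute_of_mem_core {n y : G} (hn : n ∈ O) (hnN : n ∈ Subgroup.normalizer (H : Set G))
    (hy : y ∈ H) : n * y = y * n := by
  have h1 : n * y * n⁻¹ * y⁻¹ ∈ H := mul_mem (conj_mem_of_mem_normalizer hnN hy) (inv_mem hy)
  have h2 : n * y * n⁻¹ * y⁻¹ ∈ O := by
    rw [show n * y * n⁻¹ * y⁻¹ = n * (y * n⁻¹ * y⁻¹) by group]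
    exact mul_mem hn (Subgroup.Normal.conj_mem ‹O.Normal› _ (inv_mem hn) y)
  have h3 := h.eq_one_of_mem_core hO h2 h1
  rwa [mul_inv_eq_one, mul_inv_eq_iff_eq_mul] at h3

set_option maxHeartbeats 800000 in
/-- An invariant irreducible character of `O` is trivial on commutators with elements of `H`. -/
theorem inv_char_commutator (hp2 : p ≠ 2) {a : G} (ha : a ∈ H)
    (hgood : ∀ x ∈ Subgroup.centralizer ({a} : Set G), ∀ y ∈ Subgroup.centralizer ({a} : Set G),
      h.nPart (x * y) = h.nPart x * h.nPart y)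
    [Fintype O] {θ : O → ℂ} (hθ : IsIrrCharacter O θ) (hinv : Glauberman.Inv O H θ)
    {o : G} (ho : o ∈ O) (hmem : o * a * o⁻¹ * a⁻¹ ∈ O) :
    θ ⟨o * a * o⁻¹ * a⁻¹, hmem⟩ = θ 1 := by
  classical
  have hp : p.Prime := Fact.out
  set M := O ⊔ Subgroup.zpowers a with hM
  have hOM : O ≤ M := le_sup_left
  have haM : a ∈ M := Subgroup.mem_sup_right (Subgroup.mem_zpowers a)
  haveI hMn : M.Normal := by
    refine ⟨fun x hx g => ?_⟩
    obtain ⟨g1, hg1, k, hk, rfl⟩ :=
      Subgroup.mem_sup_of_normal_left.mp (htop ▸ Subgroup.mem_top g : g ∈ O ⊔ H)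
    have hkM : ∀ y ∈ M, k * y * k⁻¹ ∈ M := by
      intro y hy
      obtain ⟨y1, hy1, z, hz, rfl⟩ := Subgroup.mem_sup_of_normal_left.mp hy
      obtain ⟨i, rfl⟩ := Subgroup.mem_zpowers_iff.mp hz
      have hc : Commute k a := h.mul_comm_mem hk ha
      rw [show k * (y1 * a ^ i) * k⁻¹ = k * y1 * k⁻¹ * (k * a ^ i * k⁻¹) by group,
        (hc.zpow_right i).eq, mul_inv_cancel_right]
      exact mul_mem (hOM (Subgroup.Normal.conj_mem ‹O.Normal› _ hy1 k))
        (Subgroup.mem_sup_right (Subgroup.zpow_mem_zpowers a i))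
    rw [show g1 * k * x * (g1 * k)⁻¹ = g1 * (k * x * k⁻¹) * g1⁻¹ by group]
    exact mul_mem (mul_mem (hOM hg1) (hkM x hx)) (inv_mem (hOM hg1))
  haveI := Fintype.ofFinite M
  set N' : Subgroup M := O.subgroupOf M with hN'
  haveI : N'.Normal := Subgroup.Normal.subgroupOf ‹O.Normal› M
  haveI := Fintype.ofFinite N'
  set s : M := ⟨a, haM⟩ with hs
  set eG : N' ≃* O := Subgroup.subgroupOfEquivOfLe hOM
  obtain ⟨k, hk⟩ : ∃ k, orderOf a = p ^ k := by
    obtain ⟨k, hk⟩ := IsPGroup.iff_orderOf.mp h.pgroup ⟨a, ha⟩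
    exact ⟨k, (Subgroup.orderOf_coe (⟨a, ha⟩ : H)).trans hk⟩
  have hord : orderOf s = p ^ k := (Subgroup.orderOf_coe s).symm.trans hk
  have hcop : (Nat.card N').Coprime (orderOf s) := by
    rw [Nat.card_congr eG.toEquiv, hord]
    exact Nat.Coprime.pow_right k (hp.coprime_iff_not_dvd.mpr hO).symm
  have htop' : N' ⊔ Subgroup.zpowers s = ⊤ := by
    apply Subgroup.map_injective M.subtype_injective
    rw [Subgroup.map_sup, hN', Subgroup.subgroupOf_map_subtype, inf_eq_left.mpr hOM,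
      MonoidHom.map_zpowers, ← MonoidHom.range_eq_map, M.range_subtype]
    rfl
  set D : Subgroup G := O ⊓ Subgroup.centralizer ({a} : Set G) with hD
  haveI := Fintype.ofFinite D
  set C' : Subgroup M := D.subgroupOf M with hC'
  haveI := Fintype.ofFinite C'
  have hCmem : ∀ c, c ∈ C' ↔ c ∈ N' ∧ c * s = s * c := fun c => by
    simp only [hC', hN', hD, Subgroup.mem_subgroupOf, Subgroup.mem_inf,
      Subgroup.mem_centralizer_singleton_iff, Subtype.ext_iff, Subgroup.coe_mul, hs]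
  set θ' : N' → ℂ := fun n => θ (eG n) with hθ'
  have hθi : IsIrrCharacter N' θ' := isIrrCharacter_comp_mulEquiv eG hθ
  have hfix : conjBy N' θ' s = θ' := funext fun n => hinv a ha _ _ rfl
  obtain ⟨η, hη⟩ := exists_canonical htop' hcop hθi hfix
  obtain ⟨β, ε, hε, hβ⟩ := Glauberman.exists_sign htop' hcop hCmem hθi hη
  have hε0 := Glauberman.isPos_sign hε
  -- `η` is invariant
  have hηinv : ∀ y ∈ H, ∀ x : M, η (MulAut.conjNormal y x) = η x := by
    intro y hy x
    set φ : M ≃* M := MulAut.conjNormal y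
    have hφs : φ s = s := Subtype.ext (by
      show y * a * y⁻¹ = a
      rw [h.mul_comm_mem hy ha, mul_inv_cancel_right])
    refine congrFun (canonical_unique htop' hcop hθi hη (η' := fun z => η (φ z))
      ⟨isIrrCharacter_comp_mulEquiv φ hη.1, fun n => ?_, ?_⟩) x
    · have hn : φ n ∈ N' := Subgroup.Normal.conj_mem ‹O.Normal› _ n.2 y
      refine (hη.2.1 ⟨φ n, hn⟩).trans ?_
      exact hinv y hy _ _ rfl
    · have := detChar_comp φ.toMonoidHom (isCharacter_of_isIrr hη.1) s
      refine this.trans ?_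
      show detChar η (φ s) = 1
      rw [hφs]
      exact hη.2.2
  -- the kernel of `nPart` on `C_O(a)`
  let T : Subgroup G :=
    { carrier := {x | x ∈ D ∧ IsR p H x}
      one_mem' := ⟨one_mem _, (h.nPart_eq_one_iff).mp (h.nPart_of_mem (one_mem _))⟩
      mul_mem' := by
        rintro x y ⟨hx, hxR⟩ ⟨hy, hyR⟩
        refine ⟨mul_mem hx hy, (h.nPart_eq_one_iff).mp ?_⟩
        rw [hgood x (Subgroup.mem_inf.mp hx).2 y (Subgroup.mem_inf.mp hy).2,
          h.nPart_eq_one_iff.mpr hxR, h.nPart_eq_one_iff.mpr hyR, one_mul]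
      inv_mem' := by
        rintro x ⟨hx, hxR⟩
        refine ⟨inv_mem hx, (h.nPart_eq_one_iff).mp ?_⟩
        have h1 := hgood x (Subgroup.mem_inf.mp hx).2 x⁻¹ (inv_mem (Subgroup.mem_inf.mp hx).2)
        rw [mul_inv_cancel, h.nPart_of_mem (one_mem _), h.nPart_eq_one_iff.mpr hxR, one_mul] at h1
        exact h1.symm }
  haveI := Fintype.ofFinite T
  have hTD : T ≤ D := fun x hx => hx.1
  have hHD : H ≤ Subgroup.normalizer (D : Set G) := fun y hy => by
    refine mem_normalizer_of_conj_mem fun x hx => Subgroup.mem_inf.mpr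
      ⟨Subgroup.Normal.conj_mem ‹O.Normal› x (Subgroup.mem_inf.mp hx).1 y, ?_⟩
    have hy' : y ∈ Subgroup.centralizer ({a} : Set G) :=
      Subgroup.mem_centralizer_singleton_iff.mpr (h.mul_comm_mem hy ha)
    exact mul_mem (mul_mem hy' (Subgroup.mem_inf.mp hx).2) (inv_mem hy')
  have hHT : H ≤ Subgroup.normalizer (T : Set G) := fun y hy => by
    refine mem_normalizer_of_conj_mem fun x hx => ⟨?_, h.isR_conj hx.2 (Subgroup.le_normalizer hy)⟩
    exact conj_mem_of_mem_normalizer (hHD hy) hx.1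
  have hDT : D ≤ Subgroup.normalizer (T : Set G) := fun c hc => by
    refine mem_normalizer_of_conj_mem fun x hx =>
      ⟨mul_mem (mul_mem hc hx.1) (inv_mem hc), h.nPart_eq_one_iff.mp ?_⟩
    have hcC := (Subgroup.mem_inf.mp hc).2
    have hxC := (Subgroup.mem_inf.mp hx.1).2
    rw [hgood _ (mul_mem hcC hxC) _ (inv_mem hcC), hgood c hcC x hxC,
      h.nPart_eq_one_iff.mpr hx.2, mul_one, ← hgood c hcC _ (inv_mem hcC), mul_inv_cancel,
      h.nPart_of_mem (one_mem _)]
  -- `β` is trivial on `T`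
  have hDM : D ≤ M := inf_le_left.trans hOM
  set eC : C' ≃* D := Subgroup.subgroupOfEquivOfLe hDM
  set β' : IrrCharacter D := ⟨fun d => (β : C' → ℂ) (eC.symm d),
    isIrrCharacter_comp_mulEquiv eC.symm β.2⟩
  have hβinv : Glauberman.Inv D H (β' : D → ℂ) := by
    intro y hy d d' e
    refine mul_left_cancel₀ hε0 ?_
    show (ε : ℂ) * (β : C' → ℂ) (eC.symm d') = (ε : ℂ) * (β : C' → ℂ) (eC.symm d)
    rw [← hβ, ← hβ, ← hηinv y hy ((eC.symm d : M) * s)]
    congr 1
    refine Subtype.ext ?_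
    show (d' : G) * a = y * ((d : G) * a) * y⁻¹
    rw [e, show y * ((d : G) * a) * y⁻¹ = y * (d : G) * y⁻¹ * (y * a * y⁻¹) by group,
      h.mul_comm_mem hy ha, mul_inv_cancel_right]
  have hT0 : ¬ p ∣ Nat.card T := fun hd =>
    hO (hd.trans (Subgroup.card_dvd_of_le (hTD.trans inf_le_left)))
  have hD0 : ¬ p ∣ Nat.card D := fun hd =>
    hO (hd.trans (Subgroup.card_dvd_of_le inf_le_left))
  have hTfix : T ⊓ Subgroup.centralizer (H : Set G) = ⊥ := by
    rw [eq_bot_iff]
    rintro x ⟨hx, hxc⟩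
    rw [Subgroup.mem_bot, ← h.nPart_of_mem (Subgroup.centralizer_le_normalizer _ hxc),
      h.nPart_eq_one_iff.mpr hx.2]
  obtain ⟨φ, hφinv, hφ⟩ := exists_inv_constituent (χ := β') hTD hHD hHT h.pgroup hD0 hβinv
  have hφ1 := eq_one_of_inv hp hHT h.pgroup hT0 hTfix φ.2 hφinv
  have hβ1 : ∀ d : D, (d : G) ∈ T → (β' : D → ℂ) d = (β' : D → ℂ) 1 := by
    intro d hd
    haveI : (T.subgroupOf D).Normal := (Subgroup.normal_subgroupOf_iff_le_normalizer hTD).mpr hDT
    haveI := Fintype.ofFinite (T.subgroupOf D)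
    set eT : T.subgroupOf D ≃* T := Subgroup.subgroupOfEquivOfLe hTD
    have hcon : classInner (fun n : T.subgroupOf D => (β' : D → ℂ) n) (fun _ => 1) ≠ 0 := by
      rw [hφ1, ← classInner_comp_mulEquiv eT] at hφ
      exact hφ
    have hcl := clifford_invariant (T.subgroupOf D) β'.2 isIrrCharacter_one (fun _ => rfl) hcon
    have e1 := congrFun hcl ⟨d, hd⟩
    have e2 := congrFun hcl 1
    simp only [Pi.smul_apply] at e1 e2
    exact e1.trans e2.symm
  -- the class product identity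
  set c0 : ℂ := (ε : ℂ) * (β : C' → ℂ) 1 with hc0
  have hval : η s = c0 := by
    have := hβ 1
    rwa [OneMemClass.coe_one, one_mul] at this
  have hodd : (2 : ℕ).Coprime (orderOf s) := by
    rw [hord]
    exact Nat.Coprime.pow_right k ((Nat.coprime_primes Nat.prime_two hp).mpr (Ne.symm hp2))
  have hprod : ∀ g : M, η (g * s * g⁻¹ * s) = c0 := by
    intro g
    obtain ⟨g1, hg1, z, hz, hg⟩ := Subgroup.mem_sup_of_normal_left.mp g.2
    obtain ⟨i, rfl⟩ := Subgroup.mem_zpowers_iff.mp hz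
    obtain ⟨r, hr, e⟩ := h.exists_eq_mul g1
    have hrO : r ∈ O := h.mem_core_of_regular htop hr.2
    have hnO : h.nPart g1 ∈ O := by
      rw [eq_inv_mul_iff_mul_eq.mpr e.symm]; exact mul_mem (inv_mem hrO) hg1
    have hgs : (g : G) * a * (g : G)⁻¹ = r * a * r⁻¹ := by
      have hna := h.commute_of_mem_core hO hnO (h.nPart_mem g1) ha
      rw [← hg, show g1 * a ^ i * a * (g1 * a ^ i)⁻¹ = g1 * (a ^ i * a * (a ^ i)⁻¹) * g1⁻¹ by group,
        ((Commute.refl a).zpow_left i).eq, mul_inv_cancel_right, e,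
        show r * h.nPart g1 * a * (r * h.nPart g1)⁻¹ = r * (h.nPart g1 * a * (h.nPart g1)⁻¹) * r⁻¹
          by group, hna, mul_inv_cancel_right]
    obtain ⟨R, hRK, hKR, hRp, -, -, hreg, -⟩ := h.exists_kJoin_complement r
    have hrR : r ∈ R := hreg r hr.1 hr.2
    have hRO : R ≤ O := fun x hx => h.mem_core_of_regular htop (not_dvd_orderOf hRp hx)
    set R' : Subgroup M := R.subgroupOf M
    have hRM : R ≤ M := hRO.trans hOM
    have haR : a ∈ Subgroup.normalizer (R : Set G) := hKR (le_kJoin H r ha)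
    have hsR : s ^ 2 ∈ Subgroup.normalizer (R' : Set M) := by
      refine pow_mem ?_ 2
      rw [Subgroup.mem_normalizer_iff]
      intro x
      exact Subgroup.mem_normalizer_iff.mp haR x
    have hcopR : (Nat.card R').Coprime (orderOf (s ^ 2)) := by
      rw [Nat.card_congr (Subgroup.subgroupOfEquivOfLe hRM).toEquiv]
      refine Nat.Coprime.coprime_dvd_right (orderOf_pow_dvd 2) ?_
      rw [hord]
      exact Nat.Coprime.pow_right k (hp.coprime_iff_not_dvd.mpr hRp).symm
    have hρR : r * (a * r⁻¹ * a⁻¹) ∈ R :=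
      mul_mem hrR ((Subgroup.mem_normalizer_iff.mp haR _).mp (inv_mem hrR))
    obtain ⟨t, htR, htc, htconj⟩ := exists_isConj_centralizing hsR hcopR
      (ρ := ⟨r * (a * r⁻¹ * a⁻¹), hRM hρR⟩) hρR
    have hts : t * s = s * t := by
      obtain ⟨m, hm⟩ := exists_pow_eq_self_of_coprime hodd
      have hcm : Commute t (s ^ 2) := htc
      have := (hcm.pow_right m).eq
      rwa [hm] at this
    have htD : (t : G) ∈ D := Subgroup.mem_inf.mpr ⟨hRO htR,
      Subgroup.mem_centralizer_singleton_iff.mpr (congrArg Subtype.val hts)⟩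
    have htT : (t : G) ∈ T := ⟨htD, h.isR_of_mem (le_kJoin H r)
      (fun x hx hn => h.mem_of_conj_mem_normalizer hx hn) (hRK htR) (not_dvd_orderOf hRp htR)⟩
    have e1 : g * s * g⁻¹ * s = ⟨r * (a * r⁻¹ * a⁻¹), hRM hρR⟩ * s ^ 2 := by
      refine Subtype.ext ?_
      show (g : G) * a * (g : G)⁻¹ * a = r * (a * r⁻¹ * a⁻¹) * a ^ 2
      rw [hgs, pow_two]
      group
    rw [e1, eq_of_isConj (isClassFunction_of_isCharacter (isCharacter_of_isIrr hη.1)) htconj,
      canonical_coset htop' hcop hθi hη (c := t) (hRO htR : (t : G) ∈ O) hts hodd]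
    rw [hβ ⟨t, htD⟩]
    congr 1
    exact hβ1 ⟨(t : G), htD⟩ htT
  have hmain : η 1 * c0 = η s * η s := by
    refine ClassProd.mul_degree_eq hη.1 s s c0 fun x y hx hy => ?_
    obtain ⟨g, rfl⟩ := isConj_iff.mp hx.symm
    obtain ⟨b, rfl⟩ := isConj_iff.mp hy.symm
    rw [show g * s * g⁻¹ * (b * s * b⁻¹) = b * (b⁻¹ * g * s * (b⁻¹ * g)⁻¹ * s) * b⁻¹ by group,
      (isClassFunction_of_isCharacter (isCharacter_of_isIrr hη.1)) _ b]
    exact hprod _
  rw [hval] at hmain
  have hc00 : c0 ≠ 0 := mul_ne_zero hε0 (irr_degree_ne_zero β.2)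
  have hs1 : η s = η 1 := hval.trans (mul_right_cancel₀ hc00 hmain).symm
  obtain ⟨n, ρ, hρ, hρe⟩ := hη.1
  have hk1 : ρ s = LinearMap.id := by
    rw [← character_eq_finrank_iff, ← ρ.char_one, hρe]
    exact hs1
  set om : M := ⟨o, hOM ho⟩
  have hmem' : om * s * om⁻¹ * s⁻¹ ∈ N' := hmem
  have h1 : η (om * s * om⁻¹ * s⁻¹) = η 1 := by
    rw [← hρe]
    show LinearMap.trace ℂ _ (ρ (om * s * om⁻¹ * s⁻¹)) = LinearMap.trace ℂ _ (ρ 1)
    congr 1
    have hsi : ρ s⁻¹ = 1 := by
      have := congrArg ρ (inv_mul_cancel s)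
      rwa [map_mul, hk1, map_one, ← Module.End.one_eq_id, mul_one] at this
    rw [map_mul, map_mul, map_mul, hk1, hsi, ← Module.End.one_eq_id, mul_one, mul_one, ← map_mul,
      mul_inv_cancel]
  rw [hη.2.1 ⟨_, hmem'⟩, show (1 : M) = ((1 : N') : M) from rfl, hη.2.1 1] at h1
  exact h1

/-- **The coprime case.** -/
theorem normalizer_le_of_coprime (hp2 : p ≠ 2)
    (hgen : Subgroup.normalClosure (H : Set G) = ⊤)
    (hgood : ∀ a ∈ H, a ≠ 1 → ∀ x ∈ Subgroup.centralizer ({a} : Set G),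
      ∀ y ∈ Subgroup.centralizer ({a} : Set G), h.nPart (x * y) = h.nPart x * h.nPart y) :
    Subgroup.normalizer (H : Set G) ≤ H := by
  classical
  have hp : p.Prime := Fact.out
  haveI := Fintype.ofFinite O
  have htriv : ∀ θ : IrrCharacter O, Glauberman.Inv O H (θ : O → ℂ) →
      (θ : O → ℂ) = fun _ => 1 := by
    intro θ hinv
    obtain ⟨n, ρ, hρ, hρe⟩ := θ.2
    set K : Subgroup G := (MonoidHom.ker ρ).map O.subtype with hK
    have hKiff : ∀ x : O, (θ : O → ℂ) x = (θ : O → ℂ) 1 ↔ (x : G) ∈ K := by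
      intro x
      rw [← hρe, ρ.char_one, character_eq_finrank_iff, ← Module.End.one_eq_id, hK,
        show (x : G) = O.subtype x from rfl, Subgroup.mem_map_iff_mem O.subtype_injective,
        MonoidHom.mem_ker]
    have hKO : K ≤ O := Subgroup.map_subtype_le _
    have hHK : H ≤ Subgroup.normalizer (K : Set G) := fun y hy => by
      refine mem_normalizer_of_conj_mem fun x hx => ?_
      have h1 := (hKiff ⟨x, hKO hx⟩).mpr hx
      rw [← hinv y hy ⟨x, hKO hx⟩ ⟨_, Subgroup.Normal.conj_mem ‹O.Normal› x (hKO hx) y⟩ rfl] at h1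
      exact (hKiff _).mp h1
    have hcomm : ∀ o ∈ O, ∀ y ∈ H, o * y * o⁻¹ * y⁻¹ ∈ K := by
      intro o ho y hy
      have hm : o * y * o⁻¹ * y⁻¹ ∈ O := by
        rw [show o * y * o⁻¹ * y⁻¹ = o * (y * o⁻¹ * y⁻¹) by group]
        exact mul_mem ho (Subgroup.Normal.conj_mem ‹O.Normal› _ (inv_mem ho) y)
      by_cases hy1 : y = 1
      · subst hy1
        simp
      · exact (hKiff ⟨_, hm⟩).mp
          (h.inv_char_commutator hO htop hp2 hy (hgood y hy hy1) θ.2 hinv ho hm)
    have hle : Subgroup.normalClosure (H : Set G) ≤ K ⊔ H := by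
      rw [Subgroup.normalClosure, Subgroup.closure_le]
      intro x hx
      obtain ⟨y, hy, hxy⟩ := Group.mem_conjugatesOfSet_iff.mp hx
      obtain ⟨g, rfl⟩ := isConj_iff.mp hxy
      obtain ⟨o, ho, k, hk, rfl⟩ :=
        Subgroup.mem_sup_of_normal_left.mp (htop ▸ Subgroup.mem_top g : g ∈ O ⊔ H)
      rw [show o * k * y * (o * k)⁻¹ = o * (k * y * k⁻¹) * o⁻¹ by group,
        h.mul_comm_mem hk hy, mul_inv_cancel_right, ← inv_mul_cancel_right (o * y * o⁻¹) y]
      exact mul_mem (Subgroup.mem_sup_left (hcomm o ho y hy)) (Subgroup.mem_sup_right hy)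
    have hall : ∀ x : O, (θ : O → ℂ) x = (θ : O → ℂ) 1 := by
      intro x
      have hx : (x : G) ∈ (↑(K ⊔ H) : Set G) := hle (hgen ▸ Subgroup.mem_top _)
      rw [Subgroup.coe_mul_of_right_le_normalizer_left K H hHK, Set.mem_mul] at hx
      obtain ⟨k, hk, y, hy, e⟩ := hx
      have hyO : y ∈ O := by
        rw [eq_inv_mul_iff_mul_eq.mpr e]
        exact mul_mem (inv_mem (hKO hk)) x.2
      rw [h.eq_one_of_mem_core hO hyO hy, mul_one] at e
      exact (hKiff x).mpr (e ▸ hk)
    by_contra hne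
    have h0 := classInner_irr_ne θ.2 isIrrCharacter_one hne
    obtain ⟨d, hd, hdeg⟩ := exists_nat_degree_irr θ.2
    simp only [classInner, hall, hdeg, map_one, mul_one, Finset.sum_const, Finset.card_univ,
      nsmul_eq_mul, mul_eq_zero, inv_eq_zero, Nat.cast_eq_zero] at h0
    rcases h0 with h0 | h0 | h0
    · exact Nat.card_pos.ne' h0
    · exact Fintype.card_ne_zero h0
    · omega
  set C : Subgroup G := O ⊓ Subgroup.centralizer (H : Set G) with hC
  haveI := Fintype.ofFinite C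
  have hHO : H ≤ Subgroup.normalizer (O : Set G) := Subgroup.le_normalizer_of_normal
  have hcop : (Nat.card O).Coprime (Nat.card H) := by
    obtain ⟨j, hj⟩ := IsPGroup.iff_card.mp h.pgroup
    rw [hj]
    exact Nat.Coprime.pow_right j (hp.coprime_iff_not_dvd.mpr hO).symm
  obtain ⟨F, hF, -⟩ := Glauberman.hasCorr_of_isPGroup hp _ H rfl hHO h.pgroup hcop C inf_le_left rfl
  have hsub : Subsingleton C := by
    refine subsingleton_of_irr fun φ => ?_
    obtain ⟨θ, rfl⟩ := hF.2 φ
    obtain ⟨θ1, hθ1⟩ := hF.2 ⟨fun _ => 1, isIrrCharacter_one⟩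
    have : θ = θ1 := Subtype.ext (Subtype.ext ((htriv θ.1 θ.2).trans (htriv θ1.1 θ1.2).symm))
    rw [this, hθ1]
  intro x hx
  obtain ⟨o, ho, k, hk, rfl⟩ :=
    Subgroup.mem_sup_of_normal_left.mp (htop ▸ Subgroup.mem_top x : x ∈ O ⊔ H)
  have hon : o ∈ Subgroup.normalizer (H : Set G) := by
    have := mul_mem hx (inv_mem (Subgroup.le_normalizer hk))
    rwa [mul_inv_cancel_right] at this
  have hoC : o ∈ C := Subgroup.mem_inf.mpr ⟨ho, Subgroup.mem_centralizer_iff.mpr fun y hy =>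
    (h.commute_of_mem_core hO ho hon hy).symm⟩
  have : o = 1 := congrArg Subtype.val (Subsingleton.elim (⟨o, hoC⟩ : C) 1)
  rw [this, one_mul]
  exact hk

end Hyp

end CfsgLib.ExtClosedP
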