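import Cfsg.Agent.Lib.ExtClosedP.Basic
import Cfsg.Agent.Lib.Char.GlaubermanCoset

/-!
# Products of two conjugates inside a complemented join

If `R` is a normalized subgroup of order prime to the order of `e`, every element of `R e` is
conjugate to an element `t e` with `t ∈ R` centralizing `e`.
-/

set_option autoImplicit false

namespace CfsgLib.ExtClosedP

open Cfsg

variable {G : Type*} [Group G] [Finite G]

theorem exists_isConj_centralizing {R : Subgroup G} {e : G}
    (he : e ∈ Subgroup.normalizer (R : Set G)) (hcop : (Nat.card R).Coprime (orderOf e))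
    {ρ : G} (hρ : ρ ∈ R) : ∃ t ∈ R, t * e = e * t ∧ IsConj (ρ * e) (t * e) := by
  classical
  haveI := Fintype.ofFinite G
  let Γ := Subgroup.normalizer (R : Set G)
  have hRΓ : R ≤ Γ := Subgroup.le_normalizer
  let N : Subgroup Γ := R.subgroupOf Γ
  haveI : N.Normal := (Subgroup.normal_subgroupOf_iff_le_normalizer hRΓ).mpr le_rfl
  let s : Γ := ⟨e, he⟩
  let C : Subgroup Γ := N ⊓ Subgroup.centralizer ({s} : Set Γ)
  have hC : ∀ c, c ∈ C ↔ c ∈ N ∧ c * s = s * c := fun c => by
    simp only [C, Subgroup.mem_inf, Subgroup.mem_centralizer_singleton_iff]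
  have hcop' : (Nat.card N).Coprime (orderOf s) := by
    rw [Nat.card_congr (Subgroup.subgroupOfEquivOfLe hRΓ).toEquiv, ← Subgroup.orderOf_coe]
    exact hcop
  set bad : Γ → ℕ := fun g => if ∃ c ∈ C, IsConj g (c * s) then 0 else 1 with hbad
  have hcl : IsClassFunction Γ fun g => (bad g : ℂ) := by
    intro g a
    simp only [hbad]
    congr 1
    refine if_congr ?_ rfl rfl
    have ha : IsConj g (a * g * a⁻¹) := isConj_iff.mpr ⟨a, rfl⟩
    exact ⟨fun ⟨c, hc, hcg⟩ => ⟨c, hc, ha.trans hcg⟩,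
      fun ⟨c, hc, hcg⟩ => ⟨c, hc, ha.symm.trans hcg⟩⟩
  have h := Char.Glauberman.card_mul_sum_coset hC hcop' hcl
  have h0 : ∀ c : C, bad ((c : Γ) * s) = 0 := fun c => by
    simp only [hbad]
    exact if_pos ⟨c, c.2, IsConj.refl _⟩
  simp only [h0, Nat.cast_zero, Finset.sum_const_zero, mul_zero, mul_eq_zero] at h
  have h1 : ∑ n : N, bad ((n : Γ) * s) = 0 := by
    rcases h with h | h
    · exact absurd (Nat.cast_eq_zero.mp h) Nat.card_pos.ne'
    · exact_mod_cast h
  have h2 : bad (⟨ρ, hRΓ hρ⟩ * s) = 0 :=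
    Finset.sum_eq_zero_iff.mp h1 ⟨⟨ρ, hRΓ hρ⟩, hρ⟩ (Finset.mem_univ _)
  simp only [hbad] at h2
  split_ifs at h2 with hex
  obtain ⟨c, hc, hcg⟩ := hex
  refine ⟨(c : G), ((hC c).mp hc).1, congrArg Subtype.val ((hC c).mp hc).2, ?_⟩
  exact Γ.subtype.map_isConj hcg

end CfsgLib.ExtClosedP
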