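import Cfsg.Agent.Lib.ExtClosedP.Coprime
import Cfsg.Agent.Lib.ExtClosedP.Principal
import Cfsg.Agent.Lib.Coprime.Generation
import Cfsg.Agent.Lib.PSolvable.Core

/-!
# Extremely closed abelian `p`-subgroups for odd `p`

`⟨H^G⟩ ∩ N(H) = H` and `G = N(H) O_{p'}(G)`.
-/

set_option autoImplicit false

namespace CfsgLib.ExtClosedP

open Cfsg

universe u

variable {G : Type u} [Group G] [Finite G] {p : ℕ} [Fact p.Prime] {H : Subgroup G}

theorem map_kJoin {Q : Type u} [Group Q] [Finite Q] (f : G →* Q) (g : G) :
    (kJoin H g).map f = kJoin (H.map f) (f g) := by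
  rw [kJoin, kJoin, Subgroup.map_sup, Subgroup.map_map, Subgroup.map_map]
  congr 2
  ext x
  simp

theorem map_triple {Q : Type u} [Group Q] [Finite Q] (f : G →* Q) (a b : G) :
    (triple H a b).map f = triple (H.map f) (f a) (f b) := by
  rw [triple, triple, Subgroup.map_sup, map_kJoin, map_kJoin]

/-- The hypothesis passes to overgroups of `H`. -/
theorem Hyp.subgroupOf (h : Hyp p H) {S : Subgroup G} (hS : H ≤ S) :
    Hyp p (H.subgroupOf S) where
  pgroup := h.pgroup.comap_of_injective S.subtype S.subtype_injective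
  comm := ⟨⟨fun a b => Subtype.ext (Subtype.ext (h.mul_comm_mem a.2 b.2))⟩⟩
  closed := by
    intro c
    refine le_antisymm ?_ (le_inf le_sup_left Subgroup.le_normalizer)
    rintro x ⟨hx, hxn⟩
    refine Subgroup.mem_subgroupOf.mpr (h.mem_of_conj_mem_normalizer (g := (c : G)) ?_ ?_)
    · have hle : H.subgroupOf S ⊔ (H.subgroupOf S).map (MulAut.conj c).toMonoidHom ≤
          (kJoin H (c : G)).comap S.subtype := by
        refine sup_le (fun y hy => le_kJoin H _ hy) ?_
        rintro _ ⟨y, hy, rfl⟩
        exact conj_mem_kJoin H (c : G) hy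
      exact hle hx
    · exact mem_normalizer_of_conj_mem fun y hy =>
        (Subgroup.mem_normalizer_iff.mp hxn ⟨y, hS hy⟩).mp hy

/-- The hypothesis passes to quotients by normal subgroups inside `H`. -/
theorem Hyp.quotient_le (h : Hyp p H) (U : Subgroup G) [U.Normal] (hU : U ≤ H) :
    Hyp p (H.map (QuotientGroup.mk' U)) where
  pgroup := h.pgroup.map _
  comm := by
    have := h.comm
    infer_instance
  closed := by
    intro c
    obtain ⟨g, rfl⟩ := QuotientGroup.mk'_surjective U c
    show kJoin (H.map (QuotientGroup.mk' U)) _ ⊓ _ = _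
    rw [← map_kJoin]
    refine le_antisymm ?_ (le_inf (Subgroup.map_mono (le_kJoin H g)) Subgroup.le_normalizer)
    rintro x ⟨⟨k, hk, rfl⟩, hxn⟩
    refine Subgroup.mem_map_of_mem _ (h.mem_of_conj_mem_normalizer hk ?_)
    refine mem_normalizer_of_conj_mem fun y hy => ?_
    have h1 := conj_mem_of_mem_normalizer hxn (Subgroup.mem_map_of_mem (QuotientGroup.mk' U) hy)
    rw [← map_inv, ← map_mul, ← map_mul, ← Subgroup.mem_comap,
      Subgroup.comap_map_eq_self (by rwa [QuotientGroup.ker_mk'])] at h1
    exact h1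

/-- The hypothesis passes to quotients by normal subgroups of order prime to `p`. -/
theorem Hyp.quotient_core (h : Hyp p H) (N : Subgroup G) [N.Normal] (hN : ¬ p ∣ Nat.card N) :
    Hyp p (H.map (QuotientGroup.mk' N)) where
  pgroup := h.pgroup.map _
  comm := by
    have := h.comm
    infer_instance
  closed := by
    intro c
    obtain ⟨g, rfl⟩ := QuotientGroup.mk'_surjective N c
    show kJoin (H.map (QuotientGroup.mk' N)) _ ⊓ _ = _
    rw [← map_kJoin]
    refine le_antisymm ?_ (le_inf (Subgroup.map_mono (le_kJoin H g)) Subgroup.le_normalizer)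
    rintro x ⟨⟨k, hk, rfl⟩, hxn⟩
    obtain ⟨R, hRK, hKR, hRp, hdec, htriv, -, -⟩ := h.exists_kJoin_complement g
    obtain ⟨r, hr, y, hy, rfl⟩ := hdec k hk
    set f := QuotientGroup.mk' N with hf
    have hrn : f r ∈ Subgroup.normalizer ((H.map f : Subgroup _) : Set (G ⧸ N)) := by
      have hxn' : f (r * y) ∈ Subgroup.normalizer ((H.map f : Subgroup _) : Set (G ⧸ N)) := hxn
      have := mul_mem hxn' (inv_mem (Subgroup.le_normalizer (Subgroup.mem_map_of_mem f hy)))
      rwa [map_mul, mul_inv_cancel_right] at this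
    have hHR : H ≤ Subgroup.normalizer (R : Set G) := (le_kJoin H g).trans hKR
    have hp : p.Prime := Fact.out
    have hcop : (Nat.card H).Coprime (Nat.card R) := by
      obtain ⟨j, hj⟩ := IsPGroup.iff_card.mp h.pgroup
      rw [hj]
      exact Nat.Coprime.pow_left j (hp.coprime_iff_not_dvd.mpr hRp)
    have hfix : ∀ a ∈ H, r⁻¹ * (a * r * a⁻¹) ∈ R ⊓ N := by
      intro a ha
      have hR' : r⁻¹ * (a * r * a⁻¹) ∈ R :=
        mul_mem (inv_mem hr) ((Subgroup.mem_normalizer_iff.mp (hHR ha) r).mp hr)
      refine Subgroup.mem_inf.mpr ⟨hR', ?_⟩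
      have hmem : f (r⁻¹ * (a * r * a⁻¹)) ∈ H.map f := by
        rw [show r⁻¹ * (a * r * a⁻¹) = r⁻¹ * a * r⁻¹⁻¹ * a⁻¹ by group, map_mul, map_mul, map_mul,
          map_inv f a, map_inv f r⁻¹]
        refine mul_mem ?_ (inv_mem (Subgroup.mem_map_of_mem f ha))
        rw [map_inv]
        exact conj_mem_of_mem_normalizer (inv_mem hrn) (Subgroup.mem_map_of_mem f ha)
      have hreg : ¬ p ∣ orderOf (f (r⁻¹ * (a * r * a⁻¹))) := fun hd =>
        not_dvd_orderOf hRp hR' (hd.trans (orderOf_map_dvd f _))
      exact (QuotientGroup.eq_one_iff _).mp (eq_one_of_regular (h.pgroup.map f) hmem hreg hp)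
    obtain ⟨c, hc, hcN⟩ := Coprime.exists_centralizer_mem_coset (N := R ⊓ N) hHR hcop
      (Or.inl (by have := h.comm; exact Coprime.isSolvable_of_isMulCommutative H)) inf_le_left
      (Coprime.le_normalizer_inf_of_le hHR Subgroup.le_normalizer_of_normal) hr hfix
    have hc1 : c = 1 := htriv c (Subgroup.mem_inf.mp hc).1
      (Subgroup.centralizer_le_normalizer _ (Subgroup.mem_inf.mp hc).2)
    rw [hc1, mul_one] at hcN
    have hrN : r ∈ N := inv_mem_iff.mp (Subgroup.mem_inf.mp hcN).2
    rw [map_mul, show f r = 1 from (QuotientGroup.eq_one_iff r).mpr hrN, one_mul]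
    exact Subgroup.mem_map_of_mem _ hy

theorem triple_aux (p : ℕ) [Fact p.Prime] (hp2 : p ≠ 2) :
    ∀ (n : ℕ) (G : Type u) [Group G] [Finite G] (H : Subgroup G), Nat.card G < n → Hyp p H →
      ∀ a b x : G, x ∈ triple H a b → x ∈ Subgroup.normalizer (H : Set G) → x ∈ H := by
  intro n
  induction n with
  | zero => intro G _ _ H hn; omega
  | succ n ih =>
    intro G _ _ H hn h
    classical
    have hp : p.Prime := Fact.out
    -- proper triples
    have hprop : ∀ a b : G, triple H a b ≠ ⊤ →
        ∀ x ∈ triple H a b, x ∈ Subgroup.normalizer (H : Set G) → x ∈ H := by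
      intro a b hne
      obtain ⟨r, hr, e⟩ := h.exists_eq_mul a
      obtain ⟨s, hs, e'⟩ := h.exists_eq_mul b
      have htr : triple H a b = triple H r s := by
        rw [triple, triple, e, e', kJoin_mul_normalizer r (h.nPart_mem a),
          kJoin_mul_normalizer s (h.nPart_mem b)]
      set X := triple H a b with hX
      have hHX : H ≤ X := (le_kJoin H a).trans le_sup_left
      have hrX : r ∈ X := htr ▸ Subgroup.mem_sup_left hr.1
      have hsX : s ∈ X := htr ▸ Subgroup.mem_sup_right hs.1
      have hlt : Nat.card X < n := by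
        have h1 : Nat.card X < Nat.card G :=
          lt_of_le_of_ne (Nat.le_of_dvd Nat.card_pos X.card_subgroup_dvd_card)
            fun e => hne (Subgroup.eq_top_of_card_eq X e)
        omega
      intro x hx hxn
      have hmap : (triple (H.subgroupOf X) ⟨r, hrX⟩ ⟨s, hsX⟩).map X.subtype = X := by
        rw [map_triple, Subgroup.map_subgroupOf_eq_of_le hHX]
        exact htr.symm
      obtain ⟨x', hx', rfl⟩ : ∃ x' ∈ triple (H.subgroupOf X) ⟨r, hrX⟩ ⟨s, hsX⟩, X.subtype x' = x := by
        rw [← hmap] at hx; exact hx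
      refine ih X _ hlt (h.subgroupOf hHX) _ _ x' hx' ?_
      exact mem_normalizer_of_conj_mem fun y hy => conj_mem_of_mem_normalizer (H := H) (y := (y : G)) hxn hy
    intro a b x hx hxn
    by_cases hne : triple H a b = ⊤
    swap
    · exact hprop a b hne x hx hxn
    suffices hmain : Subgroup.normalizer (H : Set G) ≤ H from hmain hxn
    haveI := Fintype.ofFinite G
    by_cases hH : H = ⊥
    · intro y _
      have hT : (⊤ : Subgroup G) ≤ H := by
        rw [← hne]
        refine sup_le ?_ ?_ <;>
        · refine kJoin_le le_rfl fun z hz => ?_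
          rw [hH, Subgroup.mem_bot] at hz
          rw [hz, mul_one, mul_inv_cancel]
          exact one_mem _
      exact hT (Subgroup.mem_top y)
    -- central elements of `H`
    by_cases hz : ∃ z ∈ H, z ≠ 1 ∧ Subgroup.centralizer ({z} : Set G) = ⊤
    · obtain ⟨z, hzH, hz1, hzc⟩ := hz
      set U := Subgroup.zpowers z with hU
      haveI hUn : U.Normal := ⟨fun y hy g => by
        obtain ⟨i, rfl⟩ := Subgroup.mem_zpowers_iff.mp hy
        have hc : Commute g z :=
          Subgroup.mem_centralizer_singleton_iff.mp (hzc ▸ Subgroup.mem_top g)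
        rw [(hc.zpow_right i).eq, mul_inv_cancel_right]
        exact Subgroup.zpow_mem_zpowers z i⟩
      have hUH : U ≤ H := Subgroup.zpowers_le.mpr hzH
      set f := QuotientGroup.mk' U
      have hlt : Nat.card (G ⧸ U) < n := by
        have h1 : Nat.card (G ⧸ U) < Nat.card G := by
          rw [Subgroup.card_eq_card_quotient_mul_card_subgroup U]
          refine lt_mul_of_one_lt_right Nat.card_pos ?_
          rw [hU, Nat.card_zpowers]
          exact lt_of_le_of_ne (orderOf_pos z) fun e => hz1 (orderOf_eq_one_iff.mp e.symm)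
        omega
      intro y hy
      have hy' : f y ∈ H.map f := by
        refine ih (G ⧸ U) _ hlt (h.quotient_le U hUH) (f a) (f b) (f y) ?_ ?_
        · rw [← map_triple, hne]; exact Subgroup.mem_map_of_mem f (Subgroup.mem_top y)
        · refine mem_normalizer_of_conj_mem ?_
          rintro _ ⟨w, hw, rfl⟩
          rw [← map_inv, ← map_mul, ← map_mul]
          exact Subgroup.mem_map_of_mem f (conj_mem_of_mem_normalizer hy hw)
      rw [← Subgroup.mem_comap,
        Subgroup.comap_map_eq_self (by rwa [QuotientGroup.ker_mk'])] at hy'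
      exact hy'
    push Not at hz
    have hgood : ∀ e ∈ H, e ≠ 1 → ∀ x ∈ Subgroup.centralizer ({e} : Set G),
        ∀ y ∈ Subgroup.centralizer ({e} : Set G), h.nPart (x * y) = h.nPart x * h.nPart y := by
      intro e he he1 x hx y hy
      have hHC : H ≤ Subgroup.centralizer ({e} : Set G) := fun w hw =>
        Subgroup.mem_centralizer_singleton_iff.mpr (h.mul_comm_mem hw he)
      refine h.nPart_mul hHC (fun c hc d hd => hprop c d fun htop => hz e he he1 ?_) hx hy
      refine top_le_iff.mp (htop ▸ ?_)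
      exact sup_le (kJoin_le_of_mem hHC hc) (kJoin_le_of_mem hHC hd)
    by_cases hO : pPrimeCore p G = ⊥
    · exact h.normalizer_le_of_core_trivial hp2 hH hO hne hgood
    set O := pPrimeCore p G with hOdef
    haveI : O.Normal := Transfer.pPrimeCore_normal p G
    have hOp : ¬ p ∣ Nat.card O := Transfer.not_dvd_card_pPrimeCore
    set f := QuotientGroup.mk' O with hf
    have hlt : Nat.card (G ⧸ O) < n := by
      have h1 : Nat.card (G ⧸ O) < Nat.card G := by
        rw [Subgroup.card_eq_card_quotient_mul_card_subgroup O]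
        exact lt_mul_of_one_lt_right Nat.card_pos (Finite.one_lt_card_iff_nontrivial.mpr
          ((Subgroup.nontrivial_iff_ne_bot _).mpr hO))
      omega
    have hq := h.quotient_core O hOp
    have hX : ∀ y ∈ (⊤ : Subgroup (G ⧸ O)),
        y ∈ Subgroup.normalizer ((H.map f : Subgroup _) : Set (G ⧸ O)) → y ∈ H.map f := by
      intro y _ hy
      refine ih (G ⧸ O) _ hlt hq (f a) (f b) y ?_ hy
      rw [← map_triple, hne, Subgroup.map_top_of_surjective f (QuotientGroup.mk'_surjective O)]
      exact Subgroup.mem_top y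
    obtain ⟨R, -, hRn, hRp, hdec, -, -, -⟩ := hq.exists_complement le_top hX
    have hR : R = ⊥ := by
      haveI : R.Normal := Subgroup.normalizer_eq_top_iff.mp (top_le_iff.mp hRn)
      rw [eq_bot_iff, ← PSolvable.pPrimeCore_eq_bot_of_ker (p := p) (QuotientGroup.mk'_surjective O)
        (QuotientGroup.ker_mk' O)]
      exact Transfer.le_pPrimeCore ‹R.Normal› (hp.coprime_iff_not_dvd.mpr hRp).symm
    have htop : O ⊔ H = ⊤ := by
      refine top_le_iff.mp fun y _ => ?_
      obtain ⟨r, hr, k, hk, e⟩ := hdec (f y) (Subgroup.mem_top _)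
      rw [hR, Subgroup.mem_bot] at hr
      rw [hr, one_mul] at e
      have : y ∈ (H.map f).comap f := Subgroup.mem_comap.mpr (e ▸ hk)
      rw [Subgroup.comap_map_eq, QuotientGroup.ker_mk', sup_comm] at this
      exact this
    refine h.normalizer_le_of_coprime hOp htop hp2 ?_ hgood
    refine top_le_iff.mp (hne ▸ ?_)
    have hcj : ∀ g, kJoin H g ≤ Subgroup.normalClosure (H : Set G) := fun g =>
      kJoin_le Subgroup.le_normalClosure fun w hw =>
        Subgroup.normalClosure_normal.conj_mem w (Subgroup.le_normalClosure hw) g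
    exact sup_le (hcj a) (hcj b)

/-- **Extremely closed abelian `p`-subgroups, `p` odd.** -/
theorem factorization (h : Hyp p H) (hp2 : p ≠ 2) :
    Subgroup.normalClosure (H : Set G) ⊓ Subgroup.normalizer (H : Set G) = H ∧
      Subgroup.normalizer (H : Set G) ⊔ pPrimeCore p G = ⊤ := by
  have hp : p.Prime := Fact.out
  have hmul : ∀ x y : G, h.nPart (x * y) = h.nPart x * h.nPart y := fun x y =>
    h.nPart_mul (le_top : H ≤ ⊤)
      (fun a _ b _ => triple_aux p hp2 _ G H (Nat.lt_succ_self _) h a b)
      (Subgroup.mem_top x) (Subgroup.mem_top y)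
  let f : G →* G := MonoidHom.mk' h.nPart hmul
  have hfn : ∀ g, f g ∈ Subgroup.normalizer (H : Set G) := fun g => h.nPart_mem g
  have hfid : ∀ g ∈ Subgroup.normalizer (H : Set G), f g = g := fun g hg => h.nPart_of_mem hg
  have hL : (H.comap f).Normal := ⟨fun x hx g => by
    rw [Subgroup.mem_comap, map_mul, map_mul, map_inv]
    exact conj_mem_of_mem_normalizer (hfn g) hx⟩
  refine ⟨le_antisymm ?_ (le_inf Subgroup.le_normalClosure Subgroup.le_normalizer), ?_⟩
  · rintro x ⟨hx, hxn⟩
    have hle : Subgroup.normalClosure (H : Set G) ≤ H.comap f :=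
      Subgroup.normalClosure_le_normal fun y hy => by
        show f y ∈ H
        rw [hfid y (Subgroup.le_normalizer hy)]
        exact hy
    have h1 : f x ∈ H := hle hx
    rwa [hfid x hxn] at h1
  · refine top_le_iff.mp fun g _ => ?_
    have hker : f.ker ≤ pPrimeCore p G := by
      refine Transfer.le_pPrimeCore f.normal_ker (hp.coprime_iff_not_dvd.mpr fun hd => ?_).symm
      obtain ⟨x, hx⟩ := exists_prime_orderOf_dvd_card' p hd
      have hxR : IsR p H (x : G) := h.nPart_eq_one_iff.mp x.2
      exact hxR.2 (by rw [Subgroup.orderOf_coe, hx])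
    have hg : g * (f g)⁻¹ ∈ f.ker := by
      rw [MonoidHom.mem_ker, map_mul, map_inv, hfid _ (hfn g), mul_inv_cancel]
    rw [show g = g * (f g)⁻¹ * f g from (inv_mul_cancel_right _ _).symm]
    exact mul_mem (Subgroup.mem_sup_right (hker hg)) (Subgroup.mem_sup_left (hfn g))

end CfsgLib.ExtClosedP
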